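import Cfsg.Agent.Lib.CoOneRec.TypeLocal.Lifts

/-!
# The base vector of the element of order seven
-/

set_option autoImplicit false
set_option maxRecDepth 100000

namespace CfsgLib.CoOneRec.TypeLocal

open Cfsg CfsgLib.Leech CfsgLib.Rigid CfsgLib.CoOneLocal
open CfsgLib.Rigid.Co1 (basis)
open CfsgLib.CoOneRec.MinScan (eqZ)

/-- The orbit of the base vector, by coefficients. -/
def orbSeven0 : List (List ℤ) := [[1,0,0,0,0,0,-1,0,0,-1,-1,0,-4,-3,-2,0,-1,-4,-3,0,-4,-2,-4,-5],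
  [-1,0,1,1,0,0,0,1,0,1,1,0,-2,-2,-1,1,0,-1,-2,-1,-1,-2,-1,-4],
  [0,0,0,-1,1,0,1,-1,0,0,0,0,14,11,8,-2,3,12,9,0,15,5,14,12],
  [-1,1,0,0,0,1,0,1,1,1,1,0,-6,-3,-4,1,-2,-2,-2,-1,-5,0,-4,-11],
  [1,0,-1,0,-1,-1,0,0,0,-1,-1,0,-4,-4,-3,1,-1,-6,-3,2,-7,-1,-6,5],
  [0,-1,0,0,0,1,0,0,-1,0,0,1,-4,-4,-2,-1,-1,-4,-2,0,-4,-2,-4,-5],
  [0,0,0,0,0,-1,0,-1,0,0,0,-1,6,5,4,0,2,5,3,0,6,2,5,8]]

theorem segB_orbSeven0 : segB (Basis.transp n7) orbSeven0 = true := by decide +kernel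

theorem baseSeven_ok : (eqZ (dotList (coordsL (orbSeven0.headD [])) (coordsL (orbSeven0.headD []))) 32 &&
    eqZ (selfDot (Basis.transp n7) (orbSeven0.headD [])) (-16) &&
    Nat.beq (orbSeven0.headD []).length 24) = true := by decide +kernel

/-- The hypothesis on the base vector in `card_seven`. -/
theorem base_seven (X : Co0) (hX : ∀ x, X • x = basis.linMap n7 x) :
    sqNorm ((vA (orbSeven0.headD []) : leechLattice) : GolayPt → ℤ) = 32 ∧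
      dotInt ((vA (orbSeven0.headD []) : leechLattice) : GolayPt → ℤ)
        (X • vA (orbSeven0.headD []) : leechLattice) = -16 := by
  have h := baseSeven_ok
  simp only [Bool.and_eq_true, Nat.beq_eq] at h
  obtain ⟨⟨h1, h2⟩, hl⟩ := h
  refine ⟨?_, ?_⟩
  · rw [← dotInt_self, dot_vA hl hl]
    exact MinScan.eqZ_spec.1 h1
  · rw [smul_vA hX hl, dot_vA hl (length_mulRow n7 _)]
    exact MinScan.eqZ_spec.1 h2

end CfsgLib.CoOneRec.TypeLocal
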