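import Cfsg.Agent.Lib.CoOneRec.MinScan
import Cfsg.Agent.Lib.Rigid.Co1Search

/-!
# An upper bound for a centraliser by exact images of minimal vectors

Vectors are given by their coefficients in the basis. An element that commutes with `X` and fixes some vectors sends
a further minimal vector to one with the same products; a scan of the minimal vectors lists those.
-/

set_option autoImplicit false
set_option maxRecDepth 100000

namespace CfsgLib.CoOneRec.TypeLocal

open Cfsg CfsgLib.Golay CfsgLib.Leech CfsgLib.Leech.CoTwo CfsgLib.Rigid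
open CfsgLib.Rigid.Co1 (basis tabE tabD table_ok)
open CfsgLib.CoOneRec.MinScan (combine combineT scanOk eqZ allL eqZL)

/-- The coordinates of a coefficient list. -/
noncomputable def coordsL (a : List ℤ) : List ℤ :=
  (Basis.transp (entries tabE)).map fun col => dotList a col

/-- The coefficients of a coordinate list. -/
noncomputable def coefL (l : List ℤ) : List ℤ := (entries tabD).map fun d => dotList d l / 8

/-- The coefficients of the image under a matrix. -/
noncomputable def mulRow (Nt : List (List ℤ)) (a : List ℤ) : List ℤ := Nt.map fun col => dotList a col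

/-- The lattice vector with given coefficients. -/
noncomputable def vA (a : List ℤ) : leechLattice := ∑ j : Fin 24, a.getD j.val 0 • basis.e j

theorem inner_vA (a : List ℤ) (i : Fin 24) : innerL (basis.d i) (vA a) = a.getD i.val 0 := by
  rw [vA, map_sum, Finset.sum_eq_single i]
  · rw [map_zsmul, basis.ortho, if_pos rfl, smul_eq_mul, mul_one]
  · intro j _ hj
    rw [map_zsmul, basis.ortho, if_neg (Ne.symm hj), smul_zero]
  · exact fun h => absurd (Finset.mem_univ i) h

theorem transp_row_length {M : List (List ℤ)} {i : ℕ} (h : i < (Basis.transp M).length) :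
    (Basis.transp M)[i].length = 24 := by
  simp only [Basis.transp, List.getElem_ofFn, List.length_ofFn]

theorem coe_vA {a : List ℤ} (ha : a.length = 24) :
    ((vA a : leechLattice) : GolayPt → ℤ) = toVec (coordsL a) := by
  obtain ⟨hE, -, lE, -⟩ := tableTest_parts table_ok
  have he : ∀ j : Fin 24, ((basis.e j : leechLattice) : GolayPt → ℤ) = entFn ((entries tabE).getD j.val []) :=
    fun j => coe_latRow tabE hE lE j
  funext p
  have h1 : ((vA a : leechLattice) : GolayPt → ℤ) p = ∑ j : Fin 24, a.getD j.val 0 * Basis.ent (entries tabE) j (ptEquiv p) := by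
    rw [vA, AddSubmonoidClass.coe_finset_sum, Finset.sum_apply]
    refine Finset.sum_congr rfl fun j _ => ?_
    rw [AddSubgroupClass.coe_zsmul, Pi.smul_apply, he, smul_eq_mul]
    rfl
  have hi : (ptEquiv p).val < (Basis.transp (entries tabE)).length := by
    simp [Basis.transp, (ptEquiv p).isLt]
  rw [h1, toVec, coordsL, List.getD_eq_getElem _ _ (by simpa using hi), List.getElem_map,
    dotList_getD ha (transp_row_length _)]
  refine Finset.sum_congr rfl fun j _ => ?_
  congr 1
  rw [← List.getD_eq_getElem (Basis.transp (entries tabE)) [] hi]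
  exact (Basis.ent_transp (entries tabE) (ptEquiv p) j).symm

theorem dotList_eq_dotL {a b : List ℤ} (ha : a.length = 24) (hb : b.length = 24) :
    dotList a b = dotL a b := by
  rw [dotList_getD ha hb, dotL, ← List.sum_toFinset _ List.nodup_range, List.toFinset_range]
  exact (Fin.sum_univ_eq_sum_range (fun i => a.getD i 0 * b.getD i 0) 24)

theorem length_coordsL (a : List ℤ) : (coordsL a).length = 24 := by simp [coordsL, Basis.transp]

theorem dot_vA {a b : List ℤ} (ha : a.length = 24) (hb : b.length = 24) :
    dotInt ((vA a : leechLattice) : GolayPt → ℤ) (vA b : leechLattice) = dotList (coordsL a) (coordsL b) := by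
  rw [coe_vA ha, coe_vA hb, dotInt_toVec, dotList_eq_dotL (length_coordsL a) (length_coordsL b)]

theorem vA_coefL {v : leechLattice} {l : List ℤ} (hl : l.length = 24) (h : (v : GolayPt → ℤ) = toVec l) :
    vA (coefL l) = v := by
  obtain ⟨-, hD, -, lD, -⟩ := tableTest_parts table_ok
  rw [vA]
  conv_rhs => rw [basis.expand v]
  refine Finset.sum_congr rfl fun j _ => ?_
  have hj : j.val < (entries tabD).length := by simp [entries, lD]
  have hd : ((basis.d j : leechLattice) : GolayPt → ℤ) = toVec ((entries tabD).getD j.val []) :=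
    coe_latRow tabD hD lD j
  have e := eight_mul_inner (basis.d j) v
  rw [hd, h, dotInt_toVec, ← dotList_eq_dotL (entries_row_length hD lD j) hl] at e
  congr 1
  rw [coefL, List.getD_eq_getElem _ _ (by simpa using hj), List.getElem_map,
    ← List.getD_eq_getElem (entries tabD) [] hj, ← e, Int.mul_ediv_cancel_left _ (by norm_num : (8 : ℤ) ≠ 0)]

theorem length_coefL (l : List ℤ) : (coefL l).length = 24 := by
  simp [coefL, entries, (tableTest_parts table_ok).2.2.2.1]

/-- An element with a known matrix maps coefficients through the transposed matrix. -/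
theorem smul_vA {g : Co0} {N : List (List ℤ)} (hg : ∀ x, g • x = basis.linMap N x) {a : List ℤ}
    (ha : a.length = 24) : g • vA a = vA (mulRow (Basis.transp N) a) := by
  refine basis.smul_of_coords hg a (mulRow (Basis.transp N) a) (inner_vA a) (inner_vA _) fun k => ?_
  have hk : k.val < (Basis.transp N).length := by simp [Basis.transp]
  rw [mulRow, List.getD_eq_getElem _ _ (by simpa using hk), List.getElem_map,
    dotList_getD ha (transp_row_length _)]
  refine Finset.sum_congr rfl fun j _ => ?_
  congr 1
  rw [← List.getD_eq_getElem (Basis.transp N) [] hk]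
  exact (Basis.ent_transp N k j).symm

theorem length_mulRow (N : List (List ℤ)) (a : List ℤ) : (mulRow (Basis.transp N) a).length = 24 := by
  simp [mulRow, Basis.transp]

theorem dotInt_smul_co (g : Co0) (v w : leechLattice) :
    dotInt ((g • v : leechLattice) : GolayPt → ℤ) (g • w : leechLattice) = dotInt (v : GolayPt → ℤ) w := by
  have h := sqNorm_smul_co g (v + w)
  rw [smul_add'] at h
  have e : ∀ x y : leechLattice, sqNorm ((x + y : leechLattice) : GolayPt → ℤ) =
      sqNorm (x : GolayPt → ℤ) + 2 * dotInt (x : GolayPt → ℤ) y + sqNorm (y : GolayPt → ℤ) := fun x y => by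
    simp only [sqNorm, dotInt, Finset.mul_sum, ← Finset.sum_add_distrib]
    exact Finset.sum_congr rfl fun i _ => by simp only [AddSubgroup.coe_add, Pi.add_apply]; ring
  rw [e, e, sqNorm_smul_co, sqNorm_smul_co] at h
  omega

variable (X : Co0)

/-- The automorphisms commuting with `X` that fix some vectors. -/
def fixV (F : List (List ℤ)) : Subgroup Co0 where
  carrier := {g | g * X = X * g ∧ ∀ a ∈ F, g • vA a = vA a}
  one_mem' := ⟨by rw [one_mul, mul_one], fun a _ => one_smul _ _⟩
  mul_mem' := fun {a b} ha hb => ⟨by rw [mul_assoc, hb.1, ← mul_assoc, ha.1, mul_assoc],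
    fun f hf => by rw [mul_smul, hb.2 f hf, ha.2 f hf]⟩
  inv_mem' := fun {a} ha => ⟨by
      have h := ha.1
      calc a⁻¹ * X = a⁻¹ * (X * a) * a⁻¹ := by group
        _ = X * a⁻¹ := by rw [← h]; group,
    fun f hf => by conv_lhs => rw [← ha.2 f hf, ← mul_smul, inv_mul_cancel, one_smul]⟩

/-- An orbit segment of a matrix. -/
noncomputable def segB (Nt : List (List ℤ)) : List (List ℤ) → Bool
  | [] => false
  | [a] => Nat.beq a.length 24
  | a :: b :: L => Nat.beq a.length 24 && eqZL (mulRow Nt a) b && segB Nt (b :: L)

/-- The products of a vector with the vectors of a list. -/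
noncomputable def tgt (ws : List (List ℤ)) (b : List ℤ) : List ℤ :=
  ws.map fun w => dotList (coordsL w) (coordsL b)

/-- The functional of a level. -/
noncomputable def scanW (R : ℤ) (ws : List (List ℤ)) : List ℤ := combine R (ws.map coordsL)

/-- The value of the functional at a base vector. -/
noncomputable def scanT (R : ℤ) (ws : List (List ℤ)) (b : List ℤ) : ℤ := combineT R (tgt ws b)

/-- A fixed vector that is orthogonal to a base vector. -/
noncomputable def orthB (Nt : List (List ℤ)) (S : List (List ℤ)) (b : List ℤ) : Bool :=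
  allL (fun s => Nat.beq s.length 24 && eqZL (mulRow Nt s) s &&
    eqZ (dotList (coordsL s) (coordsL b)) 0 &&
    allL (fun i => eqZ (b.getD i 0 + (mulRow Nt b).getD i 0 + (mulRow Nt (mulRow Nt b)).getD i 0) 0)
      (List.range 24)) S

/-- The product of a vector with its image. -/
noncomputable def selfDot (Nt : List (List ℤ)) (a : List ℤ) : ℤ :=
  dotList (coordsL a) (coordsL (mulRow Nt a))

/-- The candidates among the hits of the scan. -/
noncomputable def cands (Nt : List (List ℤ)) (b : List ℤ) (sol : List (List ℤ)) : List (List ℤ) :=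
  sol.filter fun l => !(Nat.beq l.length 24) || eqZ (selfDot Nt (coefL l)) (selfDot Nt b)

/-- A level: the orbit segment, the fixed vectors used, the hits and the bound. -/
structure Lev where
  /-- The orbit segment, starting with the base vector. -/
  orb : List (List ℤ)
  /-- The vectors fixed by `X`. -/
  fx : List (List ℤ)
  /-- The hits of the scan. -/
  sol : List (List ℤ)
  /-- The number of candidates. -/
  m : ℕ

/-- The small checks of a level. -/
noncomputable def levB (Nt : List (List ℤ)) (F : List (List ℤ)) (L : Lev) : Bool :=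
  segB Nt L.orb && allL (fun a => Nat.beq a.length 24) F && orthB Nt L.fx (L.orb.headD []) &&
    eqZ (dotList (coordsL (L.orb.headD [])) (coordsL (L.orb.headD []))) 32 &&
    Nat.ble (cands Nt (L.orb.headD []) L.sol).length L.m

/-- Multiples of the unit vectors are combinations of the fixed vectors. -/
noncomputable def spanV (F : List (List ℤ)) (cs : List (ℤ × List ℤ)) : Bool :=
  allL (fun a => Nat.beq a.length 24) F && allL (fun k =>
    !(eqZ (cs.getD k (0, [])).1 0) && Nat.beq (cs.getD k (0, [])).2.length F.length &&
      allL (fun i => eqZ (dotList (cs.getD k (0, [])).2 (F.map fun a => a.getD i 0))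
        (if i = k then (cs.getD k (0, [])).1 else 0)) (List.range 24)) (List.range 24)

/-- The certificate below some fixed vectors. -/
def Levels (N : List (List ℤ)) (R : ℤ) : List Lev → List (List ℤ) → Prop
  | [], F => ∃ cs, spanV F cs = true
  | L :: Ls, F => levB (Basis.transp N) F L = true ∧
      (∀ v : leechLattice, sqNorm (v : GolayPt → ℤ) = 32 →
        dotInt (toVec (scanW R (F ++ L.fx))) (v : GolayPt → ℤ) = scanT R (F ++ L.fx) (L.orb.headD []) →
        ∃ l ∈ L.sol, (v : GolayPt → ℤ) = toVec l) ∧
      (∀ l ∈ L.sol, l.length = 24) ∧ Levels N R Ls (F ++ L.orb)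

variable {X} {N : List (List ℤ)}

/-- The orbit bound for one further vector. -/
theorem card_le_of_img {F : List (List ℤ)} {orb : List (List ℤ)} (hX : ∀ x, X • x = basis.linMap N x)
    (hseg : segB (Basis.transp N) orb = true) {S : Set leechLattice} (hS : S.Finite)
    (himg : ∀ g ∈ fixV X F, g • vA (orb.headD []) ∈ S) :
    Nat.card (fixV X F) ≤ S.ncard * Nat.card (fixV X (F ++ orb)) := by
  classical
  have := finite_co0
  set v := vA (orb.headD [])
  have hfix : ∀ (L : List (List ℤ)), segB (Basis.transp N) L = true → ∀ g : Co0, g * X = X * g →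
      g • vA (L.headD []) = vA (L.headD []) → ∀ a ∈ L, g • vA a = vA a := by
    intro L
    induction L with
    | nil => intro h; simp [segB] at h
    | cons a L ih =>
      intro h g hg e f hf
      rcases List.mem_cons.1 hf with rfl | hf
      · exact e
      · match L, h with
        | c :: L, h =>
          simp only [segB, Bool.and_eq_true, Nat.beq_eq] at h
          obtain ⟨⟨ha, hc⟩, hL⟩ := h
          refine ih hL g hg ?_ f hf
          simp only [List.headD_cons] at e ⊢
          rw [← MinScan.eqZL_spec hc, ← smul_vA hX ha, ← mul_smul, hg, mul_smul, e]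
  let r : S → fixV X F := fun j => if h : ∃ g : fixV X F, g.1 • v = j.1 then h.choose else 1
  have hr : ∀ g : fixV X F, (r ⟨g.1 • v, himg g.1 g.2⟩).1 • v = g.1 • v := fun g => by
    have h : ∃ g' : fixV X F, g'.1 • v = g.1 • v := ⟨g, rfl⟩
    simp only [r, dif_pos h]
    exact h.choose_spec
  have hq : ∀ g : fixV X F, ((r ⟨g.1 • v, himg g.1 g.2⟩)⁻¹ * g : fixV X F).1 ∈ fixV X (F ++ orb) := fun g => by
    have h1 := ((r ⟨g.1 • v, himg g.1 g.2⟩)⁻¹ * g : fixV X F).2
    refine ⟨h1.1, fun a ha => ?_⟩
    rcases List.mem_append.1 ha with ha | ha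
    · exact h1.2 a ha
    · refine hfix orb hseg _ h1.1 ?_ a ha
      simp only [Subgroup.coe_mul, Subgroup.coe_inv]
      rw [mul_smul, inv_smul_eq_iff]
      exact (hr g).symm
  let F' : fixV X F → S × fixV X (F ++ orb) := fun g => (⟨g.1 • v, himg g.1 g.2⟩, ⟨_, hq g⟩)
  have hinj : Function.Injective F' := fun g g' h => by
    have h1 : (⟨g.1 • v, himg g.1 g.2⟩ : S) = ⟨g'.1 • v, himg g'.1 g'.2⟩ := congrArg Prod.fst h
    have h2 := congrArg (fun q => (q.2 : Co0)) h
    simp only [F', Subgroup.coe_mul, Subgroup.coe_inv, h1] at h2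
    exact Subtype.ext (mul_left_cancel h2)
  haveI : Finite S := hS.to_subtype
  refine (Nat.card_le_card_of_injective F' hinj).trans ?_
  rw [Nat.card_prod, Nat.card_coe_set_eq]

theorem fixV_bot {F : List (List ℤ)} {cs : List (ℤ × List ℤ)} (h : spanV F cs = true) : fixV X F = ⊥ := by
  refine eq_bot_iff.2 fun g hg => Subgroup.mem_bot.2 (co_ext fun x => ?_)
  simp only [spanV, Bool.and_eq_true] at h
  obtain ⟨hlen, hall⟩ := h
  have hunit : ∀ k : Fin 24, g • basis.e k = basis.e k := fun k => by
    have hk := MinScan.allL_spec hall k.val (List.mem_range.2 k.isLt)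
    simp only [Bool.and_eq_true, Bool.not_eq_true', Nat.beq_eq] at hk
    obtain ⟨⟨hm, hl⟩, hc⟩ := hk
    set m := (cs.getD k.val (0, [])).1
    set c := (cs.getD k.val (0, [])).2
    have hm0 : m ≠ 0 := fun e => by simp [e, eqZ] at hm
    have hcomb : (∑ i : Fin F.length, c.getD i.val 0 • vA F[i]) = m • basis.e k := by
      simp only [vA, Finset.smul_sum, smul_smul]
      rw [Finset.sum_comm, Finset.sum_eq_single k]
      · rw [← Finset.sum_smul]
        congr 1
        have h' := MinScan.eqZ_spec.1 (MinScan.allL_spec hc k.val (List.mem_range.2 k.isLt))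
        rw [if_pos rfl, dotList_getD (n := F.length) hl (by simp)] at h'
        rw [← h']
        exact Finset.sum_congr rfl fun i _ => by simp [List.getD_eq_getElem?_getD]
      · intro j _ hj
        rw [← Finset.sum_smul]
        have h' := MinScan.eqZ_spec.1 (MinScan.allL_spec hc j.val (List.mem_range.2 j.isLt))
        rw [if_neg (fun e => hj (Fin.ext e)), dotList_getD (n := F.length) hl (by simp)] at h'
        rw [show (∑ i : Fin F.length, c.getD i.val 0 * F[i].getD j.val 0) = 0 from
          (Finset.sum_congr rfl fun i _ => by simp [List.getD_eq_getElem?_getD]).trans h', zero_smul]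
      · exact fun h => absurd (Finset.mem_univ k) h
    have e : m • (g • basis.e k) = m • basis.e k := by
      rw [← hcomb]
      show m • actHom g (basis.e k) = _
      rw [← map_zsmul, ← hcomb, map_sum]
      refine Finset.sum_congr rfl fun i _ => ?_
      rw [map_zsmul]
      exact congrArg _ (hg.2 _ (List.getElem_mem _))
    refine Subtype.ext (funext fun p => ?_)
    have e' := congrArg (fun v : leechLattice => (v : GolayPt → ℤ) p) e
    simp only [AddSubgroupClass.coe_zsmul, Pi.smul_apply, smul_eq_mul] at e'
    exact mul_left_cancel₀ hm0 e'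
  rw [one_smul]
  show actHom g x = x
  conv_lhs => rw [basis.expand x, map_sum]
  conv_rhs => rw [basis.expand x]
  refine Finset.sum_congr rfl fun j _ => ?_
  rw [map_zsmul]
  exact congrArg _ (hunit j)

theorem card_le_prod (hX : ∀ x, X • x = basis.linMap N x) {R : ℤ} : ∀ (Ls : List Lev) (F : List (List ℤ)),
    Levels N R Ls F → Nat.card (fixV X F) ≤ (Ls.map Lev.m).prod
  | [], F, ⟨cs, h⟩ => by rw [fixV_bot h]; simp
  | L :: Ls, F, ⟨hlev, hscan, hsol, hrec⟩ => by
    classical
    simp only [levB, Bool.and_eq_true, Nat.ble_eq] at hlev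
    obtain ⟨⟨⟨⟨hseg, hF⟩, horth⟩, h32⟩, hm⟩ := hlev
    set b := L.orb.headD []
    have hb : b.length = 24 := by
      rcases ho : L.orb with _ | ⟨a, _ | ⟨c, r⟩⟩ <;>
        simp only [ho, segB, Bool.and_eq_true, Nat.beq_eq, Bool.false_eq_true] at hseg
      · simpa [b, ho] using hseg
      · simpa [b, ho] using hseg.1.1
    have hFl : ∀ a ∈ F, a.length = 24 := fun a ha => Nat.eq_of_beq_eq_true (MinScan.allL_spec hF a ha)
    let C := cands (Basis.transp N) b L.sol
    let S : Set leechLattice := {v | ∃ l ∈ C, (v : GolayPt → ℤ) = toVec l}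
    have hSsub : S ⊆ ((C.map fun l => vA (coefL l)).toFinset : Set leechLattice) := by
      rintro v ⟨l, hl, e⟩
      simp only [Finset.mem_coe, List.mem_toFinset, List.mem_map]
      exact ⟨l, hl, vA_coefL (hsol l (List.mem_of_mem_filter hl)) e⟩
    have hSfin : S.Finite := Set.Finite.subset (Finset.finite_toSet _) hSsub
    have hcard : S.ncard ≤ L.m := by
      refine (Set.ncard_le_ncard hSsub (Finset.finite_toSet _)).trans ?_
      rw [Set.ncard_coe_finset]
      exact (List.toFinset_card_le _).trans (by simpa [C] using hm)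
    have himg : ∀ g ∈ fixV X F, g • vA b ∈ S := by
      intro g hg
      set v := g • vA b with hv
      have hn : sqNorm (v : GolayPt → ℤ) = 32 := by
        rw [hv, sqNorm_smul_co, ← dotInt_self, dot_vA hb hb]
        exact MinScan.eqZ_spec.1 h32
      have hdot : ∀ a ∈ F ++ L.fx, dotInt (toVec (coordsL a)) (v : GolayPt → ℤ) =
          dotList (coordsL a) (coordsL b) := by
        intro a ha
        rcases List.mem_append.1 ha with ha | ha
        · rw [← coe_vA (hFl a ha), ← dot_vA (hFl a ha) hb, hv]
          conv_lhs => rw [← hg.2 a ha]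
          exact dotInt_smul_co g _ _
        · have ho := MinScan.allL_spec horth a ha
          simp only [Bool.and_eq_true, Nat.beq_eq] at ho
          obtain ⟨⟨⟨hal, hfx⟩, h0⟩, hsum⟩ := ho
          rw [MinScan.eqZ_spec.1 h0, ← coe_vA hal]
          set u := g⁻¹ • vA a
          have hXa : X • vA a = vA a := by rw [smul_vA hX hal, MinScan.eqZL_spec hfx]
          have hXu : X • u = u := by
            have hgi : g⁻¹ * X = X * g⁻¹ := ((fixV X F).inv_mem hg).1
            show X • g⁻¹ • vA a = g⁻¹ • vA a
            rw [← mul_smul, ← hgi, mul_smul, hXa]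
          have e : dotInt ((vA a : leechLattice) : GolayPt → ℤ) (v : GolayPt → ℤ) =
              dotInt (u : GolayPt → ℤ) (vA b : leechLattice) := by
            rw [← dotInt_smul_co g u, smul_inv_smul]
          rw [e]
          have h3 : vA b + X • vA b + X • X • vA b = 0 := by
            rw [smul_vA hX hb, smul_vA hX (length_mulRow N b), basis.expand (_ + _ + _)]
            refine Finset.sum_eq_zero fun j _ => ?_
            rw [map_add, map_add, inner_vA, inner_vA, inner_vA,
              MinScan.eqZ_spec.1 (MinScan.allL_spec hsum j.val (List.mem_range.2 j.isLt)), zero_smul]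
          have e1 : dotInt (u : GolayPt → ℤ) (X • vA b : leechLattice) = dotInt (u : GolayPt → ℤ) (vA b : leechLattice) := by
            conv_lhs => rw [← hXu]
            exact dotInt_smul_co X _ _
          have e2 : dotInt (u : GolayPt → ℤ) (X • X • vA b : leechLattice) =
              dotInt (u : GolayPt → ℤ) (vA b : leechLattice) := by
            conv_lhs => rw [← hXu]
            rw [dotInt_smul_co, e1]
          have h4 : dotInt (u : GolayPt → ℤ) ((vA b + X • vA b + X • X • vA b : leechLattice) : GolayPt → ℤ) = 0 := by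
            rw [h3]; simp [dotInt]
          simp only [AddSubgroup.coe_add, dotInt, Pi.add_apply, mul_add, Finset.sum_add_distrib] at h4 e1 e2 ⊢
          omega
      obtain ⟨l, hl, el⟩ := hscan v hn (by
        rw [scanW, scanT]
        refine MinScan.dotInt_combine R ?_
        rw [tgt, List.forall₂_map_left_iff, List.forall₂_map_right_iff, List.forall₂_same]
        exact hdot)
      refine ⟨l, List.mem_filter.2 ⟨hl, ?_⟩, el⟩
      rw [Bool.or_eq_true]
      right
      rw [MinScan.eqZ_spec, selfDot, selfDot, ← dot_vA (length_coefL l) (length_mulRow N _),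
        ← dot_vA hb (length_mulRow N b), ← smul_vA hX (length_coefL l), ← smul_vA hX hb, vA_coefL (hsol l hl) el,
        hv, ← mul_smul X, ← hg.1, mul_smul, dotInt_smul_co]
    rw [List.map_cons, List.prod_cons]
    exact ((card_le_of_img hX hseg hSfin himg).trans (Nat.mul_le_mul_right _ hcard)).trans
      (Nat.mul_le_mul_left _ (card_le_prod hX Ls _ hrec))

/-- The centraliser in the quotient by the scalars is at most half the centraliser of a lift of odd order. -/
theorem card_cent_mk_le {p : ℕ} (hp : Odd p) (hX : X ^ p = 1) :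
    2 * Nat.card (Subgroup.centralizer ({(QuotientGroup.mk X : Spor.Co1)} : Set Spor.Co1)) ≤
      Nat.card (fixV X []) := by
  have := finite_co0
  have hneg : (negAut : Co0) ∈ fixV X [] :=
    ⟨((Subgroup.mem_center_iff.1 CfsgLib.MonsterType.negAut_mem_center X).symm), fun a ha => absurd ha List.not_mem_nil⟩
  let φ : fixV X [] →* Subgroup.centralizer ({(QuotientGroup.mk X : Spor.Co1)} : Set Spor.Co1) :=
    MonoidHom.mk' (fun g => ⟨QuotientGroup.mk g.1, Subgroup.mem_centralizer_singleton_iff.2
      (congrArg (QuotientGroup.mk (s := Subgroup.center Co0)) g.2.1)⟩) fun a b => rfl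
  have hsurj : Function.Surjective φ := by
    rintro ⟨c, hc⟩
    obtain ⟨g, rfl⟩ := QuotientGroup.mk'_surjective _ c
    rw [Subgroup.mem_centralizer_singleton_iff] at hc
    have hz : (X * g)⁻¹ * (g * X) ∈ Subgroup.center Co0 := QuotientGroup.eq.1 hc.symm
    rcases CfsgLib.MonsterType.center_co0_cases hz with e | e
    · exact ⟨⟨g, ⟨(inv_mul_eq_one.1 e).symm, fun a ha => absurd ha List.not_mem_nil⟩⟩, rfl⟩
    · exfalso
      have e1 : g * X * g⁻¹ = X * negAut := by
        have hc' := Subgroup.mem_center_iff.1 CfsgLib.MonsterType.negAut_mem_center g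
        rw [inv_mul_eq_iff_eq_mul] at e
        rw [e, mul_assoc X g, hc', ← mul_assoc, mul_inv_cancel_right]
      have h2 : (X * negAut) ^ p = 1 := by
        rw [← e1, conj_pow, hX, mul_one, mul_inv_cancel]
      rw [(Commute.mul_pow (Subgroup.mem_center_iff.1 CfsgLib.MonsterType.negAut_mem_center X) p), hX,
        one_mul] at h2
      obtain ⟨k, rfl⟩ := hp
      have hsq : (negAut : Co0) * negAut = 1 := by
        refine co_ext fun v => ?_
        rw [mul_smul, CfsgLib.MonsterType.negAut_smul, CfsgLib.MonsterType.negAut_smul, neg_neg, one_smul]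
      rw [pow_succ, pow_mul, pow_two, hsq, one_pow, one_mul] at h2
      have h3 := congrArg (fun g : Co0 => g • basis.e 0) h2
      simp only [one_smul, CfsgLib.MonsterType.negAut_smul] at h3
      have h4 := congrArg (innerL (basis.d 0)) h3
      rw [map_neg, basis.ortho, if_pos rfl] at h4
      omega
  have hker : 2 ≤ Nat.card φ.ker := by
    have hne : (⟨negAut, hneg⟩ : fixV X []) ≠ 1 := fun e => by
      have h3 := congrArg (fun g : fixV X [] => g.1 • basis.e 0) e
      simp only [OneMemClass.coe_one, one_smul, CfsgLib.MonsterType.negAut_smul] at h3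
      have h4 := congrArg (innerL (basis.d 0)) h3
      rw [map_neg, basis.ortho, if_pos rfl] at h4
      omega
    have hm : (⟨negAut, hneg⟩ : fixV X []) ∈ φ.ker :=
      Subtype.ext ((QuotientGroup.eq_one_iff _).2 CfsgLib.MonsterType.negAut_mem_center)
    haveI : Nontrivial φ.ker := ⟨⟨⟨_, hm⟩, 1, fun e => hne (congrArg Subtype.val e)⟩⟩
    exact Finite.one_lt_card
  have h := Subgroup.card_eq_card_quotient_mul_card_subgroup φ.ker
  rw [Nat.card_congr (QuotientGroup.quotientKerEquivOfSurjective φ hsurj).toEquiv] at h
  calc 2 * Nat.card _ ≤ Nat.card φ.ker * Nat.card _ := Nat.mul_le_mul_right _ hker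
    _ = Nat.card (fixV X []) := by rw [h, mul_comm]

end CfsgLib.CoOneRec.TypeLocal
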