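import Cfsg.Agent.Lib.CoOneRec.TypeLocal.Bound

/-!
# The matrix of an automorphism on coordinates
-/

set_option autoImplicit false
set_option maxRecDepth 100000

namespace CfsgLib.CoOneRec.TypeLocal

open Cfsg CfsgLib.Golay CfsgLib.Leech CfsgLib.Leech.CoTwo CfsgLib.Rigid
open CfsgLib.Rigid.Co1 (basis tabE tabD table_ok)

/-- Eight times the matrix of an automorphism on coordinates, by rows. -/
noncomputable def coordM (N : List (List ℤ)) : List (List ℤ) :=
  let imgs := N.map coordsL
  let Dt := Basis.transp (entries tabD)
  (List.range 24).map fun i =>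
    let col := imgs.map fun r => r.getD i 0
    Dt.map fun d => dotList d col

/-- The image of a coordinate list under a matrix given by rows. -/
noncomputable def applyL (M : List (List ℤ)) (v : List ℤ) : List ℤ := M.map fun r => dotList r v

theorem eight_coe_smul {X : Co0} {N : List (List ℤ)} (hX : ∀ x, X • x = basis.linMap N x)
    (hl : N.length = 24) (hr : ∀ r ∈ N, r.length = 24) {v : leechLattice} {l : List ℤ} (hv : l.length = 24)
    (h : (v : GolayPt → ℤ) = toVec l) :
    (fun p => 8 * ((X • v : leechLattice) : GolayPt → ℤ) p) = toVec (applyL (coordM N) l) := by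
  obtain ⟨-, hD, -, lD, -⟩ := tableTest_parts table_ok
  funext p
  set i := (ptEquiv p).val
  have hi : i < 24 := (ptEquiv p).isLt
  have hrow : ∀ j : Fin 24, basis.rowVec N j = vA (N.getD j.val []) := fun j => rfl
  have hlen : ∀ j : Fin 24, (N.getD j.val []).length = 24 := fun j => by
    rw [List.getD_eq_getElem _ _ (by omega)]
    exact hr _ (List.getElem_mem _)
  have e1 : ((X • v : leechLattice) : GolayPt → ℤ) p =
      ∑ j : Fin 24, innerL (basis.d j) v * (coordsL (N.getD j.val [])).getD i 0 := by
    rw [hX]
    show ((∑ j, innerL (basis.d j) v • basis.rowVec N j : leechLattice) : GolayPt → ℤ) p = _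
    rw [AddSubmonoidClass.coe_finsetSum, Finset.sum_apply]
    refine Finset.sum_congr rfl fun j _ => ?_
    rw [AddSubgroupClass.coe_zsmul, Pi.smul_apply, hrow, coe_vA (hlen j), smul_eq_mul]
    rfl
  have hd : ∀ j : Fin 24, 8 * innerL (basis.d j) v = ∑ q : Fin 24, Basis.ent (entries tabD) j q * l.getD q.val 0 := by
    intro j
    rw [eight_mul_inner, h, show ((basis.d j : leechLattice) : GolayPt → ℤ) =
      toVec ((entries tabD).getD j.val []) from coe_latRow tabD hD lD j, dotInt_toVec,
      ← dotList_eq_dotL (entries_row_length hD lD j) hv, dotList_getD (entries_row_length hD lD j) hv]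
    rfl
  rw [e1, Finset.mul_sum]
  show _ = (applyL (coordM N) l).getD i 0
  have hT : ((Basis.transp (entries tabD)).map fun d =>
      dotList d ((N.map coordsL).map fun r => r.getD i 0)).length = 24 := by simp [Basis.transp]
  rw [applyL, coordM, List.getD_eq_getElem _ _ (by simp [hi]), List.getElem_map, List.getElem_map,
    List.getElem_range, dotList_getD hT hv]
  calc ∑ j : Fin 24, 8 * (innerL (basis.d j) v * (coordsL (N.getD j.val [])).getD i 0)
      = ∑ j : Fin 24, ∑ q : Fin 24,
        Basis.ent (entries tabD) j q * (coordsL (N.getD j.val [])).getD i 0 * l.getD q.val 0 := by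
        refine Finset.sum_congr rfl fun j _ => ?_
        rw [← mul_assoc, hd, Finset.sum_mul]
        exact Finset.sum_congr rfl fun q _ => by ring
    _ = _ := by
        rw [Finset.sum_comm]
        refine Finset.sum_congr rfl fun q _ => ?_
        have hq : q.val < (Basis.transp (entries tabD)).length := by simp [Basis.transp]
        rw [List.getD_eq_getElem ((Basis.transp (entries tabD)).map fun d =>
          dotList d ((N.map coordsL).map fun r => r.getD i 0)) 0 (by rw [hT]; exact q.isLt), List.getElem_map, ← Finset.sum_mul,
          dotList_getD (transp_row_length hq) (by simp [hl])]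
        congr 1
        refine Finset.sum_congr rfl fun j _ => ?_
        rw [← List.getD_eq_getElem (Basis.transp (entries tabD)) [] hq]
        have hj : j.val < ((N.map coordsL).map fun r => r.getD i 0).length := by simp [hl]
        conv_rhs => rw [List.getD_eq_getElem _ _ hj, List.getElem_map, List.getElem_map,
          ← List.getD_eq_getElem N [] (by omega)]
        congr 1
        exact (Basis.ent_transp (entries tabD) q j).symm

end CfsgLib.CoOneRec.TypeLocal
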