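import Cfsg.Agent.Lib.CoOneRec.Gens

/-!
# An element of order seven and one of order three in the first Conway group
-/

set_option autoImplicit false

namespace CfsgLib.CoOneRec.TypeLocal

open Cfsg

/-- The five generators. -/
noncomputable def gen5 : Fin 5 → Spor.Co1 := ![gOne 0, gOne 1, gOne 2, gOne 3, nOne]

/-- The element of order seven without fixed points on the lattice modulo twice itself. -/
noncomputable def xSeven : Spor.Co1 :=
  gen5 2 * gen5 1 * gen5 1 * gen5 0 * gen5 0 * gen5 4 * gen5 0 * gen5 1 * gen5 0

/-- The element of order three with fixed space of dimension eight. -/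
noncomputable def xThree : Spor.Co1 := (gen5 0 * gen5 4 * gen5 1) * (gen5 0 * gen5 4 * gen5 1)

end CfsgLib.CoOneRec.TypeLocal
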