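import Cfsg.Agent.Lib.CoOneRec.TypeLocal.ScanLevelAll
import Cfsg.Agent.Lib.CoOneRec.TypeLocal.BaseSeven
import Cfsg.Agent.Lib.CoOneRec.TypeLocal.ScanCheckSeven0
import Cfsg.Agent.Lib.CoOneRec.TypeLocal.ScanCheckSeven1
import Cfsg.Agent.Lib.CoOneRec.TypeLocal.ScanCheckSeven2

/-!
# The levels of the bound on the centraliser of the element of order seven
-/

set_option autoImplicit false
set_option maxRecDepth 100000
set_option maxHeartbeats 4000000

namespace CfsgLib.CoOneRec.TypeLocal

open CfsgLib.CoOneLocal CfsgLib.CoOneRec.MinScan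

/-- A level. -/
def levSeven0 : Lev := ⟨segSeven0, [], solSeven0, 1⟩

/-- A level. -/
def levSeven1 : Lev := ⟨segSeven1, [], solSeven1, 3⟩

/-- A level. -/
def levSeven2 : Lev := ⟨segSeven2, [], solSeven2, 1⟩

/-- The levels. -/
def levelsSeven : List Lev :=
  [levSeven0, levSeven1, levSeven2]

theorem levBSeven0 : levB (Rigid.Basis.transp n7) (orbSeven0) levSeven0 = true := levB_of_all (by decide +kernel)

theorem funOkSeven0 : funOk 256 ((orbSeven0) ++ levSeven0.fx) (levSeven0.orb.headD []) funSeven0 valSeven0 levSeven0.sol = true := by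
  decide +kernel

theorem levBSeven1 : levB (Rigid.Basis.transp n7) (orbSeven0 ++ segSeven0) levSeven1 = true := levB_of_all (by decide +kernel)

theorem funOkSeven1 : funOk 256 ((orbSeven0 ++ segSeven0) ++ levSeven1.fx) (levSeven1.orb.headD []) funSeven1 valSeven1 levSeven1.sol = true := by
  decide +kernel

theorem levBSeven2 : levB (Rigid.Basis.transp n7) (orbSeven0 ++ segSeven0 ++ segSeven1) levSeven2 = true := levB_of_all (by decide +kernel)

theorem funOkSeven2 : funOk 256 ((orbSeven0 ++ segSeven0 ++ segSeven1) ++ levSeven2.fx) (levSeven2.orb.headD []) funSeven2 valSeven2 levSeven2.sol = true := by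
  decide +kernel

theorem spanSeven : spanV (orbSeven0 ++ segSeven0 ++ segSeven1 ++ segSeven2) combSeven = true := by
  decide +kernel

/-- The certificate of the bound. -/
theorem levels_seven : Levels n7 256 levelsSeven orbSeven0 :=
  levels_cons (L := levSeven0) levBSeven0 funOkSeven0 loSeven0 hiSeven0 twoSeven0 <|
  levels_cons (L := levSeven1) levBSeven1 funOkSeven1 loSeven1 hiSeven1 twoSeven1 <|
  levels_cons (L := levSeven2) levBSeven2 funOkSeven2 loSeven2 hiSeven2 twoSeven2 <|
  ⟨combSeven, spanSeven⟩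

end CfsgLib.CoOneRec.TypeLocal
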