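import Cfsg.Agent.Lib.CoOneRec.TypeLocal.Bound
import Cfsg.Agent.Lib.CoOneLocal.Lower

/-!
# The lifts of odd order of the two elements
-/

set_option autoImplicit false
set_option maxRecDepth 100000

namespace CfsgLib.CoOneRec.TypeLocal

open Cfsg CfsgLib.Leech CfsgLib.Rigid CfsgLib.Rigid.Co1 CfsgLib.CoOneLocal
open CfsgLib.CoOneRec.MinScan (eqZL allL)
open CfsgLib.Leech.ConwaySimple (mk1)

/-- A negated matrix. -/
def negM (M : List (List ℤ)) : List (List ℤ) := M.map fun r => r.map fun a => -a

/-- The matrix of the lift of order seven. -/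
noncomputable def n7 : List (List ℤ) := x7M

/-- The matrix of the lift of order three. -/
noncomputable def n3 : List (List ℤ) := negM x3M

/-- A unit coefficient list. -/
def unitL (k : ℕ) : List ℤ := (List.range 24).map fun i => if i = k then 1 else 0

/-- A matrix of order dividing `p`. -/
noncomputable def powB (N : List (List ℤ)) (p : ℕ) : Bool :=
  allL (fun k => eqZL ((mulRow (Basis.transp N))^[p] (unitL k)) (unitL k)) (List.range 24)

theorem vA_unitL (k : Fin 24) : vA (unitL k.val) = basis.e k := by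
  rw [vA, Finset.sum_eq_single k]
  · simp [unitL, List.getD_eq_getElem?_getD]
  · intro j _ hj
    have : (unitL k.val).getD j.val 0 = 0 := by
      simp [unitL, List.getD_eq_getElem?_getD]
      exact fun e => hj (Fin.ext e)
    rw [this, zero_smul]
  · exact fun h => absurd (Finset.mem_univ k) h

theorem pow_eq_one_of_powB {X : Co0} {N : List (List ℤ)} (hX : ∀ x, X • x = basis.linMap N x) {p : ℕ}
    (h : powB N p = true) : X ^ p = 1 := by
  have key : ∀ (q : ℕ) (a : List ℤ), a.length = 24 → X ^ q • vA a = vA ((mulRow (Basis.transp N))^[q] a) := by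
    intro q
    induction q with
    | zero => intro a _; simp
    | succ q ih =>
      intro a ha
      rw [pow_succ, mul_smul, smul_vA hX ha, ih _ (length_mulRow N a), Function.iterate_succ_apply]
  refine co_ext fun x => ?_
  rw [one_smul]
  show actHom (X ^ p) x = x
  conv_lhs => rw [basis.expand x, map_sum]
  conv_rhs => rw [basis.expand x]
  refine Finset.sum_congr rfl fun j _ => ?_
  rw [map_zsmul]
  refine congrArg _ ?_
  show X ^ p • basis.e j = basis.e j
  rw [← vA_unitL, key p _ (by simp [unitL]),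
    MinScan.eqZL_spec (MinScan.allL_spec h j.val (List.mem_range.2 j.isLt))]

theorem exists_lift {N N' NG : List (List ℤ)} {C : List ℕ} {p : ℕ} (h : elB gram N N' NG C = true)
    (hp : powB N p = true) (hC : act.C (el C) = C) :
    ∃ X : Co0, (∀ x, X • x = basis.linMap N x) ∧ X ^ p = 1 ∧ (QuotientGroup.mk X : Spor.Co1) = el C := by
  simp only [elB, Bool.and_eq_true, eqL_iff] at h
  obtain ⟨h, hcode⟩ := h
  obtain ⟨g, hg, -⟩ := exists_mem_of_mat basis (mkBasis_gram table_ok) h
  have h' := h
  simp only [Basis.autTest, Basis.mulTest, Bool.and_eq_true, beq_iff_eq] at h'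
  refine ⟨g, hg, pow_eq_one_of_powB hg hp, injective_act ?_⟩
  rw [hC, ← hcode]
  exact (basis.cod1_C g).trans (basis.cols1_of_mat hg h'.1.1.1.1.1.1.1.1 h'.1.1.1.1.1.2)

theorem n7_ok : powB n7 7 = true := by decide +kernel

theorem n3_ok : elB gram n3 (negM x3I) (negM x3G) x3C = true ∧ powB n3 3 = true := by decide +kernel

theorem exists_lift_seven :
    ∃ X : Co0, (∀ x, X • x = basis.linMap n7 x) ∧ X ^ 7 = 1 ∧ (QuotientGroup.mk X : Spor.Co1) = x7 :=
  exists_lift x7_ok n7_ok code_x7

theorem exists_lift_three :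
    ∃ X : Co0, (∀ x, X • x = basis.linMap n3 x) ∧ X ^ 3 = 1 ∧ (QuotientGroup.mk X : Spor.Co1) = x3 :=
  exists_lift n3_ok.1 n3_ok.2 code_x3

end CfsgLib.CoOneRec.TypeLocal
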