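import Cfsg.Agent.Lib.CoOneRec.TypeLocal.ScanLevel
import Cfsg.Agent.Lib.CoOneRec.TypeLocal.ScanData

/-!
# Kernel check of one scan of the minimal vectors (generated by tools/co1/s5386/emit_scans.py)
-/

set_option autoImplicit false
set_option maxRecDepth 100000
set_option maxHeartbeats 4000000

namespace CfsgLib.CoOneRec.TypeLocal

open CfsgLib.CoOneRec.MinScan

theorem loThree5 : partsLo funThree5 valThree5 solThree5 = true := by decide +kernel

theorem hiThree5 : partsHi funThree5 valThree5 solThree5 = true := by decide +kernel

theorem twoThree5 : twoScan funThree5 valThree5 solThree5 = true := by decide +kernel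

end CfsgLib.CoOneRec.TypeLocal
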