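import Cfsg.Agent.Lib.CoOneRec.TypeLocal.ScanLevelAll
import Cfsg.Agent.Lib.CoOneRec.TypeLocal.Lifts
import Cfsg.Agent.Lib.CoOneRec.TypeLocal.ScanCheckThree0
import Cfsg.Agent.Lib.CoOneRec.TypeLocal.ScanCheckThree1
import Cfsg.Agent.Lib.CoOneRec.TypeLocal.ScanCheckThree2
import Cfsg.Agent.Lib.CoOneRec.TypeLocal.ScanCheckThree3
import Cfsg.Agent.Lib.CoOneRec.TypeLocal.ScanCheckThree4
import Cfsg.Agent.Lib.CoOneRec.TypeLocal.ScanCheckThree5
import Cfsg.Agent.Lib.CoOneRec.TypeLocal.ScanCheckThree6
import Cfsg.Agent.Lib.CoOneRec.TypeLocal.ScanCheckThree7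
import Cfsg.Agent.Lib.CoOneRec.TypeLocal.ScanCheckThree8
import Cfsg.Agent.Lib.CoOneRec.TypeLocal.ScanCheckThree9
import Cfsg.Agent.Lib.CoOneRec.TypeLocal.ScanCheckThree10

/-!
# The levels of the bound on the centraliser of the element of order three
-/

set_option autoImplicit false
set_option maxRecDepth 100000
set_option maxHeartbeats 4000000

namespace CfsgLib.CoOneRec.TypeLocal

open CfsgLib.CoOneLocal CfsgLib.CoOneRec.MinScan

/-- A level. -/
def levThree0 : Lev := ⟨segThree0, fixThree, solThree0, 720⟩

/-- A level. -/
def levThree1 : Lev := ⟨segThree1, fixThree, solThree1, 56⟩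

/-- A level. -/
def levThree2 : Lev := ⟨segThree2, fixThree, solThree2, 27⟩

/-- A level. -/
def levThree3 : Lev := ⟨segThree3, [], solThree3, 1⟩

/-- A level. -/
def levThree4 : Lev := ⟨segThree4, [], solThree4, 1⟩

/-- A level. -/
def levThree5 : Lev := ⟨segThree5, [], solThree5, 1⟩

/-- A level. -/
def levThree6 : Lev := ⟨segThree6, [], solThree6, 1⟩

/-- A level. -/
def levThree7 : Lev := ⟨segThree7, [], solThree7, 1⟩

/-- A level. -/
def levThree8 : Lev := ⟨segThree8, [], solThree8, 1⟩

/-- A level. -/
def levThree9 : Lev := ⟨segThree9, [], solThree9, 1⟩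

/-- A level. -/
def levThree10 : Lev := ⟨segThree10, [], solThree10, 1⟩

/-- The levels. -/
def levelsThree : List Lev :=
  [levThree0, levThree1, levThree2, levThree3, levThree4, levThree5, levThree6, levThree7, levThree8, levThree9, levThree10]

theorem levBThree0 : levB (Rigid.Basis.transp n3) ([]) levThree0 = true := levB_of_all (by decide +kernel)

theorem funOkThree0 : funOk 256 (([]) ++ levThree0.fx) (levThree0.orb.headD []) funThree0 valThree0 levThree0.sol = true := by
  decide +kernel

theorem levBThree1 : levB (Rigid.Basis.transp n3) ([] ++ segThree0) levThree1 = true := levB_of_all (by decide +kernel)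

theorem funOkThree1 : funOk 256 (([] ++ segThree0) ++ levThree1.fx) (levThree1.orb.headD []) funThree1 valThree1 levThree1.sol = true := by
  decide +kernel

theorem levBThree2 : levB (Rigid.Basis.transp n3) ([] ++ segThree0 ++ segThree1) levThree2 = true := levB_of_all (by decide +kernel)

theorem funOkThree2 : funOk 256 (([] ++ segThree0 ++ segThree1) ++ levThree2.fx) (levThree2.orb.headD []) funThree2 valThree2 levThree2.sol = true := by
  decide +kernel

theorem levBThree3 : levB (Rigid.Basis.transp n3) ([] ++ segThree0 ++ segThree1 ++ segThree2) levThree3 = true := levB_of_all (by decide +kernel)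

theorem funOkThree3 : funOk 256 (([] ++ segThree0 ++ segThree1 ++ segThree2) ++ levThree3.fx) (levThree3.orb.headD []) funThree3 valThree3 levThree3.sol = true := by
  decide +kernel

theorem levBThree4 : levB (Rigid.Basis.transp n3) ([] ++ segThree0 ++ segThree1 ++ segThree2 ++ segThree3) levThree4 = true := by
  decide +kernel

theorem funOkThree4 : funOk 256 (([] ++ segThree0 ++ segThree1 ++ segThree2 ++ segThree3) ++ levThree4.fx) (levThree4.orb.headD []) funThree4 valThree4 levThree4.sol = true := by
  decide +kernel

theorem levBThree5 : levB (Rigid.Basis.transp n3) ([] ++ segThree0 ++ segThree1 ++ segThree2 ++ segThree3 ++ segThree4) levThree5 = true := levB_of_all (by decide +kernel)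

theorem funOkThree5 : funOk 256 (([] ++ segThree0 ++ segThree1 ++ segThree2 ++ segThree3 ++ segThree4) ++ levThree5.fx) (levThree5.orb.headD []) funThree5 valThree5 levThree5.sol = true := by
  decide +kernel

theorem levBThree6 : levB (Rigid.Basis.transp n3) ([] ++ segThree0 ++ segThree1 ++ segThree2 ++ segThree3 ++ segThree4 ++ segThree5) levThree6 = true := levB_of_all (by decide +kernel)

theorem funOkThree6 : funOk 256 (([] ++ segThree0 ++ segThree1 ++ segThree2 ++ segThree3 ++ segThree4 ++ segThree5) ++ levThree6.fx) (levThree6.orb.headD []) funThree6 valThree6 levThree6.sol = true := by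
  decide +kernel

theorem levBThree7 : levB (Rigid.Basis.transp n3) ([] ++ segThree0 ++ segThree1 ++ segThree2 ++ segThree3 ++ segThree4 ++ segThree5 ++ segThree6) levThree7 = true := levB_of_all (by decide +kernel)

theorem funOkThree7 : funOk 256 (([] ++ segThree0 ++ segThree1 ++ segThree2 ++ segThree3 ++ segThree4 ++ segThree5 ++ segThree6) ++ levThree7.fx) (levThree7.orb.headD []) funThree7 valThree7 levThree7.sol = true := by
  decide +kernel

theorem levBThree8 : levB (Rigid.Basis.transp n3) ([] ++ segThree0 ++ segThree1 ++ segThree2 ++ segThree3 ++ segThree4 ++ segThree5 ++ segThree6 ++ segThree7) levThree8 = true := levB_of_all (by decide +kernel)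

theorem funOkThree8 : funOk 256 (([] ++ segThree0 ++ segThree1 ++ segThree2 ++ segThree3 ++ segThree4 ++ segThree5 ++ segThree6 ++ segThree7) ++ levThree8.fx) (levThree8.orb.headD []) funThree8 valThree8 levThree8.sol = true := by
  decide +kernel

theorem levBThree9 : levB (Rigid.Basis.transp n3) ([] ++ segThree0 ++ segThree1 ++ segThree2 ++ segThree3 ++ segThree4 ++ segThree5 ++ segThree6 ++ segThree7 ++ segThree8) levThree9 = true := by
  decide +kernel

theorem funOkThree9 : funOk 256 (([] ++ segThree0 ++ segThree1 ++ segThree2 ++ segThree3 ++ segThree4 ++ segThree5 ++ segThree6 ++ segThree7 ++ segThree8) ++ levThree9.fx) (levThree9.orb.headD []) funThree9 valThree9 levThree9.sol = true := by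
  decide +kernel

theorem levBThree10 : levB (Rigid.Basis.transp n3) ([] ++ segThree0 ++ segThree1 ++ segThree2 ++ segThree3 ++ segThree4 ++ segThree5 ++ segThree6 ++ segThree7 ++ segThree8 ++ segThree9) levThree10 = true := levB_of_all (by decide +kernel)

theorem funOkThree10 : funOk 256 (([] ++ segThree0 ++ segThree1 ++ segThree2 ++ segThree3 ++ segThree4 ++ segThree5 ++ segThree6 ++ segThree7 ++ segThree8 ++ segThree9) ++ levThree10.fx) (levThree10.orb.headD []) funThree10 valThree10 levThree10.sol = true := by
  decide +kernel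

theorem spanThree : spanV ([] ++ segThree0 ++ segThree1 ++ segThree2 ++ segThree3 ++ segThree4 ++ segThree5 ++ segThree6 ++ segThree7 ++ segThree8 ++ segThree9 ++ segThree10) combThree = true := by
  decide +kernel

/-- The certificate of the bound. -/
theorem levels_three : Levels n3 256 levelsThree [] :=
  levels_cons (L := levThree0) levBThree0 funOkThree0 loThree0 hiThree0 twoThree0 <|
  levels_cons (L := levThree1) levBThree1 funOkThree1 loThree1 hiThree1 twoThree1 <|
  levels_cons (L := levThree2) levBThree2 funOkThree2 loThree2 hiThree2 twoThree2 <|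
  levels_cons (L := levThree3) levBThree3 funOkThree3 loThree3 hiThree3 twoThree3 <|
  levels_cons (L := levThree4) levBThree4 funOkThree4 loThree4 hiThree4 twoThree4 <|
  levels_cons (L := levThree5) levBThree5 funOkThree5 loThree5 hiThree5 twoThree5 <|
  levels_cons (L := levThree6) levBThree6 funOkThree6 loThree6 hiThree6 twoThree6 <|
  levels_cons (L := levThree7) levBThree7 funOkThree7 loThree7 hiThree7 twoThree7 <|
  levels_cons (L := levThree8) levBThree8 funOkThree8 loThree8 hiThree8 twoThree8 <|
  levels_cons (L := levThree9) levBThree9 funOkThree9 loThree9 hiThree9 twoThree9 <|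
  levels_cons (L := levThree10) levBThree10 funOkThree10 loThree10 hiThree10 twoThree10 <|
  ⟨combThree, spanThree⟩

end CfsgLib.CoOneRec.TypeLocal
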