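import Cfsg.Agent.Lib.CoOneRec.TypeLocal.QuadSevenData

/-!
Counts of the quadratic scan, part 1 of four.
-/

set_option autoImplicit false
set_option maxRecDepth 100000

namespace CfsgLib.CoOneRec.MinScan

theorem quad_part0 : (partQ quadA quadCols quadP0 (-256) (-64) 0).length = 2562 := by
  decide +kernel

theorem quad_part1 : (partQ quadA quadCols quadP0 (-256) (-64) 13062145).length = 1814 := by
  decide +kernel

theorem quad_part2 : (partQ quadA quadCols quadP0 (-256) (-64) 4845570).length = 1472 := by
  decide +kernel

theorem quad_part3 : (partQ quadA quadCols quadP0 (-256) (-64) 9347075).length = 1112 := by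
  decide +kernel

end CfsgLib.CoOneRec.MinScan
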