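import Cfsg.Agent.Lib.CoOneRec.TypeLocal.QuadSevenData

/-!
Counts of the quadratic scan, part 2 of four.
-/

set_option autoImplicit false
set_option maxRecDepth 100000

namespace CfsgLib.CoOneRec.MinScan

theorem quad_part4 : (partQ quadA quadCols quadP0 (-256) (-64) 13938692).length = 1280 := by
  decide +kernel

theorem quad_part5 : (partQ quadA quadCols quadP0 (-256) (-64) 1302533).length = 936 := by
  decide +kernel

theorem quad_part6 : (partQ quadA quadCols quadP0 (-256) (-64) 10305542).length = 774 := by
  decide +kernel

theorem quad_part7 : (partQ quadA quadCols quadP0 (-256) (-64) 5902343).length = 742 := by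
  decide +kernel

end CfsgLib.CoOneRec.MinScan
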