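import Cfsg.Agent.Lib.CoOneRec.TypeLocal.QuadSevenData

/-!
Counts of the quadratic scan, part 3 of four.
-/

set_option autoImplicit false
set_option maxRecDepth 100000

namespace CfsgLib.CoOneRec.MinScan

theorem quad_part8 : (partQ quadA quadCols quadP0 (-256) (-64) 7221256).length = 1810 := by
  decide +kernel

theorem quad_part9 : (partQ quadA quadCols quadP0 (-256) (-64) 11100169).length = 1090 := by
  decide +kernel

theorem quad_part10 : (partQ quadA quadCols quadP0 (-256) (-64) 2605066).length = 1120 := by
  decide +kernel

theorem quad_part11 : (partQ quadA quadCols quadP0 (-256) (-64) 14716939).length = 760 := by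
  decide +kernel

end CfsgLib.CoOneRec.MinScan
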