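import Cfsg.Agent.Lib.CoOneRec.TypeLocal.QuadSevenData

/-!
Counts of the quadratic scan, part 4 of four.
-/

set_option autoImplicit false
set_option maxRecDepth 100000

namespace CfsgLib.CoOneRec.MinScan

theorem quad_part12 : (partQ quadA quadCols quadP0 (-256) (-64) 12222476).length = 944 := by
  decide +kernel

theorem quad_part13 : (partQ quadA quadCols quadP0 (-256) (-64) 8245261).length = 568 := by
  decide +kernel

theorem quad_part14 : (partQ quadA quadCols quadP0 (-256) (-64) 15953934).length = 738 := by
  decide +kernel

theorem quad_part15 : (partQ quadA quadCols quadP0 (-256) (-64) 3416079).length = 642 := by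
  decide +kernel

theorem quad_two : (twoQ quadA (-256)).length = 116 := by decide +kernel

end CfsgLib.CoOneRec.MinScan
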