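import Cfsg.Agent.Lib.CoOneRec.TypeLocal.QuadScan
import Cfsg.Agent.Lib.CoOneRec.TypeLocal.QuadSevenCheck0
import Cfsg.Agent.Lib.CoOneRec.TypeLocal.QuadSevenCheck1
import Cfsg.Agent.Lib.CoOneRec.TypeLocal.QuadSevenCheck2
import Cfsg.Agent.Lib.CoOneRec.TypeLocal.QuadSevenCheck3

/-!
The number of minimal vectors with product minus two with their image under the lift of an element of order seven.
-/

set_option autoImplicit false
set_option maxRecDepth 100000

namespace CfsgLib.CoOneRec.MinScan

open Cfsg CfsgLib.Golay CfsgLib.Leech CfsgLib.Leech.CoTwo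

theorem quad_data : dataOk quadM quadA quadCols quadP0 = true := by decide +kernel

/-- The words that split the code into sixteen parts. -/
def quadAccs : List ℕ := [0,13062145,4845570,9347075,13938692,1302533,10305542,5902343,7221256,11100169,2605066,14716939,12222476,8245261,15953934,3416079]

theorem quadAccs_mem : allL (fun x => quadAccs.any (Nat.beq x)) (spanList (golayBasis.take 4)) = true := by
  decide +kernel

/-- All vectors found by the scan. -/
noncomputable def quadHits : List (List ℤ) :=
  quadAccs.flatMap (partQ quadA quadCols quadP0 (-256) (-64)) ++ twoQ quadA (-256)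

theorem length_quadHits : quadHits.length = 18480 := by
  simp only [quadHits, quadAccs, List.flatMap_cons, List.flatMap_nil, List.length_append, List.length_nil,
    quad_part0, quad_part1, quad_part2, quad_part3, quad_part4, quad_part5, quad_part6, quad_part7, quad_part8, quad_part9, quad_part10, quad_part11, quad_part12, quad_part13, quad_part14, quad_part15, quad_two]

/-- At most 23519 minimal vectors have product minus sixteen with the image of the lift. -/
theorem quad_count : {v : leechLattice | sqNorm (v : GolayPt → ℤ) = 32 ∧
    dotInt (v : GolayPt → ℤ) (mulV quadM v) = -128}.ncard ≤ 23519 := by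
  classical
  rw [← Set.ncard_image_of_injective _ Subtype.val_injective]
  refine (Set.ncard_le_ncard (t := ((quadHits.map toVec).toFinset : Set (GolayPt → ℤ))) ?_
    (Finset.finite_toSet _)).trans ?_
  · rintro _ ⟨v, ⟨hn, hd⟩, rfl⟩
    obtain ⟨l, hl, e⟩ := quad_complete quad_data (t := -128) (t8 := -64) (by norm_num) v.2 hn hd
    rw [Finset.mem_coe, List.mem_toFinset, List.mem_map]
    refine ⟨l, ?_, e.symm⟩
    rcases hl with ⟨x, hx, hl⟩ | hl
    · obtain ⟨y, hy, hxy⟩ := List.any_eq_true.1 (allL_spec quadAccs_mem x hx)
      rw [Nat.beq_eq] at hxy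
      subst hxy
      exact List.mem_append_left _ (List.mem_flatMap.2 ⟨_, hy, hl⟩)
    · exact List.mem_append_right _ hl
  · rw [Set.ncard_coe_finset]
    refine (List.toFinset_card_le _).trans ?_
    rw [List.length_map, length_quadHits]
    norm_num

end CfsgLib.CoOneRec.MinScan
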