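import Cfsg.Agent.Lib.CoOneRec.TypeLocal.Lifts
import Cfsg.Agent.Lib.CoOneRec.TypeLocal.QuadSeven

/-!
The quadratic scan counts the vectors with product minus two with their image under the lift of order seven.
-/

set_option autoImplicit false
set_option maxRecDepth 100000

namespace CfsgLib.CoOneRec.TypeLocal

open Cfsg CfsgLib.Leech CfsgLib.Leech.CoTwo CfsgLib.Rigid CfsgLib.Rigid.Co1
open CfsgLib.CoOneRec.MinScan (mulV quadM eqZL allL)

/-- The matrix on the basis. -/
noncomputable def quadBasisOk : Bool :=
  allL (fun j => eqZL (quadM.map fun row => dotList row (coordsL (unitL j)))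
      ((coordsL (mulRow (Basis.transp n7) (unitL j))).map fun a => 8 * a) &&
    allL (fun row => Nat.beq row.length 24) quadM) (List.range 24)

theorem quadBasis_ok : quadBasisOk = true := by decide +kernel

theorem mulV_add (M : List (List ℤ)) (v w : GolayPt → ℤ) : mulV M (v + w) = mulV M v + mulV M w := by
  funext p
  have key : ∀ L : List (List ℤ), ∀ i,
      (L.map fun row => dotInt (toVec row) (v + w)).getD i 0 =
        (L.map fun row => dotInt (toVec row) v).getD i 0 + (L.map fun row => dotInt (toVec row) w).getD i 0 := by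
    intro L
    induction L with
    | nil => intro i; simp
    | cons r L ih =>
      rintro (_ | i)
      · simpa using dotInt_add_right (toVec r) v w
      · simpa using ih i
  exact key M _

theorem coe_smul_eq {X : Co0} (hX : ∀ x, X • x = basis.linMap n7 x) (v : leechLattice) :
    mulV quadM (v : GolayPt → ℤ) = (8 : ℤ) • ((X • v : leechLattice) : GolayPt → ℤ) := by
  let F1 : leechLattice →+ (GolayPt → ℤ) :=
    AddMonoidHom.mk' (fun u => mulV quadM (u : GolayPt → ℤ)) fun a b => by
      rw [AddSubgroup.coe_add]; exact mulV_add _ _ _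
  let F2 : leechLattice →+ (GolayPt → ℤ) :=
    AddMonoidHom.mk' (fun u => (8 : ℤ) • ((actHom X u : leechLattice) : GolayPt → ℤ)) fun a b => by
      rw [map_add, AddSubgroup.coe_add, smul_add]
  have he : ∀ j, F1 (basis.e j) = F2 (basis.e j) := fun j => by
    show mulV quadM _ = (8 : ℤ) • ((X • basis.e j : leechLattice) : GolayPt → ℤ)
    rw [← vA_unitL, smul_vA hX (by simp [unitL]), coe_vA (by simp [unitL]), coe_vA (length_mulRow _ _)]
    have h := MinScan.allL_spec quadBasis_ok j.val (List.mem_range.2 j.isLt)
    simp only [Bool.and_eq_true] at h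
    funext p
    rw [Pi.smul_apply, smul_eq_mul, mulV, toVec, toVec]
    have hrow : (quadM.map fun row => dotInt (toVec row) (toVec (coordsL (unitL j.val)))) =
        quadM.map fun row => dotList row (coordsL (unitL j.val)) :=
      List.map_congr_left fun row hr => by
        rw [dotInt_toVec, dotList_eq_dotL (Nat.eq_of_beq_eq_true (MinScan.allL_spec h.2 row hr)) (length_coordsL _)]
    rw [hrow, MinScan.eqZL_spec h.1]
    conv_lhs => rw [show (0 : ℤ) = 8 * 0 by norm_num]
    rw [List.getD_map (f := fun a => 8 * a)]
  show F1 v = F2 v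
  rw [basis.expand v, map_sum, map_sum]
  exact Finset.sum_congr rfl fun j _ => by rw [map_zsmul, map_zsmul, he]

/-- At most 23519 minimal vectors have product `-16` with their image, in coordinates. -/
theorem quad_count_lift {X : Co0} (hX : ∀ x, X • x = basis.linMap n7 x) :
    {v : leechLattice | sqNorm (v : GolayPt → ℤ) = 32 ∧
      dotInt (v : GolayPt → ℤ) (X • v : leechLattice) = -16}.ncard ≤ 23519 := by
  refine le_of_eq_of_le (congrArg Set.ncard (Set.ext fun v => ?_)) MinScan.quad_count
  simp only [Set.mem_setOf_eq, coe_smul_eq hX, dotInt, Pi.smul_apply, smul_eq_mul, mul_left_comm _ (8 : ℤ),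
    ← Finset.mul_sum]
  constructor <;> rintro ⟨h1, h2⟩ <;> exact ⟨h1, by omega⟩

theorem quad_count_lift_finite (X : Co0) :
    {v : leechLattice | sqNorm (v : GolayPt → ℤ) = 32 ∧
      dotInt (v : GolayPt → ℤ) (X • v : leechLattice) = -16}.Finite :=
  Set.Finite.of_finite_image ((finite_norm 32).subset (Set.image_subset_iff.2 fun v h => ⟨v.2, h.1⟩))
    Subtype.val_injective.injOn

end CfsgLib.CoOneRec.TypeLocal
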