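import Cfsg.Agent.Lib.CoOneRec.TypeLocal.Main
import Cfsg.Agent.Lib.CoOneRec.TypeLocal.BaseSeven
import Cfsg.Agent.Lib.CoOneRec.TypeLocal.QuadLift
import Cfsg.Agent.Lib.CoOneRec.TypeLocal.LevelsSeven
import Cfsg.Agent.Lib.CoOneRec.TypeLocal.LevelsThree

/-!
# The bounds for the two centralisers in the first Conway group
-/

set_option autoImplicit false

namespace CfsgLib.CoOneRec.TypeLocal

open Cfsg CfsgLib.Leech CfsgLib.Rigid CfsgLib.CoOneLocal

theorem bound_seven : Nat.card ↥(Subgroup.centralizer ({x7} : Set Spor.Co1)) < 35280 := by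
  refine card_seven segB_orbSeven0 base_seven (fun X hX => ⟨?_, quad_count_lift hX⟩) levels_seven (by decide)
  exact ((Set.finite_of_ncard_ne_zero (s := {x : GolayPt → ℤ | x ∈ leechLattice ∧ sqNorm x = 32})
    (by rw [ncard_norm32]; norm_num)).preimage Subtype.val_injective.injOn).subset fun v hv => ⟨v.2, hv.1⟩

theorem bound_three : Nat.card ↥(Subgroup.centralizer ({x3} : Set Spor.Co1)) ≤ 544320 :=
  card_three levels_three (by decide)

end CfsgLib.CoOneRec.TypeLocal
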