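import Mathlib

/-!
# Centralisers and normalisers of subgroups along an isomorphism
-/

set_option autoImplicit false

namespace CfsgLib.CoOneRec.TypeLocal

open Subgroup

variable {G H : Type*} [Group G] [Group H] (e : G ≃* H)

/-- The preimage of a subgroup. -/
def pre (V : Subgroup H) : Subgroup G := V.comap e.toMonoidHom

theorem card_pre (V : Subgroup H) : Nat.card (pre e V) = Nat.card V :=
  Nat.card_congr (e.toEquiv.subtypeEquiv fun _ => Iff.rfl)

theorem centralizer_pre (V : Subgroup H) :
    centralizer (pre e V : Set G) = pre e (centralizer (V : Set H)) := by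
  ext g
  simp only [pre, mem_comap, mem_centralizer_iff, SetLike.mem_coe, MulEquiv.coe_toMonoidHom]
  constructor
  · intro h v hv
    have := congrArg e (h (e.symm v) (by simpa using hv))
    simpa using this
  · intro h v hv
    refine e.injective ?_
    rw [map_mul, map_mul]
    exact h (e v) hv

theorem normalizer_pre (V : Subgroup H) :
    normalizer (pre e V : Set G) = pre e (normalizer (V : Set H)) := by
  ext g
  simp only [pre, mem_comap, mem_normalizer_iff, SetLike.mem_coe, MulEquiv.coe_toMonoidHom]
  constructor
  · intro h v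
    have := h (e.symm v)
    simpa using this
  · intro h v
    simpa using h (e v)

/-- The equivalence of a preimage with the subgroup. -/
def preEquiv (V : Subgroup H) : pre e V ≃* V :=
  { e.toEquiv.subtypeEquiv (fun _ => Iff.rfl) with map_mul' := fun a b => Subtype.ext (map_mul e a.1 b.1) }

include e in
theorem exists_centralizer {n : ℕ} {A : Type*} [Mul A] {V : Subgroup H} (hc : Nat.card V = n)
    (h : Nonempty (centralizer (V : Set H) ≃* A)) :
    ∃ W : Subgroup G, Nat.card W = n ∧ Nonempty (centralizer (W : Set G) ≃* A) := by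
  obtain ⟨f⟩ := h
  exact ⟨pre e V, (card_pre e V).trans hc,
    ⟨((MulEquiv.subgroupCongr (centralizer_pre e V)).trans (preEquiv e _)).trans f⟩⟩

include e in
theorem exists_normalizer {n : ℕ} {A : Type*} [Mul A] {V : Subgroup H} (hc : Nat.card V = n)
    (h : Nonempty (normalizer (V : Set H) ≃* A)) :
    ∃ W : Subgroup G, Nat.card W = n ∧ Nonempty (normalizer (W : Set G) ≃* A) := by
  obtain ⟨f⟩ := h
  exact ⟨pre e V, (card_pre e V).trans hc,
    ⟨((MulEquiv.subgroupCongr (normalizer_pre e V)).trans (preEquiv e _)).trans f⟩⟩

end CfsgLib.CoOneRec.TypeLocal
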