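import Cfsg.Agent.Lib.CoOneRec.TypeLocal.Lifts
import Cfsg.Agent.Lib.CoOneRec.TypeLocal.Transfer

/-!
# The two local subgroups from the scans
-/

set_option autoImplicit false

namespace CfsgLib.CoOneRec.TypeLocal

open Cfsg CfsgLib.Leech CfsgLib.Rigid CfsgLib.CoOneLocal
open CfsgLib.Rigid.Co1 (basis)

theorem conj_mem_quad {X g : Co0} (hg : g * X = X * g) {v : leechLattice}
    (hn : sqNorm (v : GolayPt → ℤ) = 32) (hd : dotInt (v : GolayPt → ℤ) (X • v : leechLattice) = -16) :
    sqNorm ((g • v : leechLattice) : GolayPt → ℤ) = 32 ∧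
      dotInt ((g • v : leechLattice) : GolayPt → ℤ) (X • g • v : leechLattice) = -16 := by
  refine ⟨by rw [sqNorm_smul_co]; exact hn, ?_⟩
  rw [← mul_smul, ← hg, mul_smul, dotInt_smul_co]
  exact hd

/-- The centraliser bound for the element of order seven. -/
theorem card_seven {R : ℤ} {orb : List (List ℤ)} {Ls : List Lev}
    (hseg : segB (Basis.transp n7) orb = true)
    (hb : ∀ X : Co0, (∀ x, X • x = basis.linMap n7 x) →
      sqNorm ((vA (orb.headD []) : leechLattice) : GolayPt → ℤ) = 32 ∧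
        dotInt ((vA (orb.headD []) : leechLattice) : GolayPt → ℤ) (X • vA (orb.headD []) : leechLattice) = -16)
    (hquad : ∀ X : Co0, (∀ x, X • x = basis.linMap n7 x) →
      {v : leechLattice | sqNorm (v : GolayPt → ℤ) = 32 ∧
        dotInt (v : GolayPt → ℤ) (X • v : leechLattice) = -16}.Finite ∧
      {v : leechLattice | sqNorm (v : GolayPt → ℤ) = 32 ∧
        dotInt (v : GolayPt → ℤ) (X • v : leechLattice) = -16}.ncard ≤ 23519)
    (hLs : Levels n7 R Ls orb) (hm : (Ls.map Lev.m).prod ≤ 3) :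
    Nat.card ↥(Subgroup.centralizer ({x7} : Set Spor.Co1)) < 35280 := by
  obtain ⟨X, hX, hp, hx⟩ := exists_lift_seven
  obtain ⟨hfin, hcard⟩ := hquad X hX
  obtain ⟨hn, hd⟩ := hb X hX
  have h0 := card_le_of_img (F := []) hX hseg hfin fun g hg => conj_mem_quad hg.1 hn hd
  rw [List.nil_append] at h0
  have h1 := h0.trans (Nat.mul_le_mul hcard ((card_le_prod hX Ls orb hLs).trans hm))
  have h2 := (card_cent_mk_le (X := X) (p := 7) (by decide) hp).trans h1
  rw [hx] at h2
  omega

/-- The centraliser bound for the element of order three. -/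
theorem card_three {R : ℤ} {Ls : List Lev} (hLs : Levels n3 R Ls []) (hm : (Ls.map Lev.m).prod ≤ 1088640) :
    Nat.card ↥(Subgroup.centralizer ({x3} : Set Spor.Co1)) ≤ 544320 := by
  obtain ⟨X, hX, hp, hx⟩ := exists_lift_three
  have h2 := (card_cent_mk_le (X := X) (p := 3) (by decide) hp).trans ((card_le_prod hX Ls [] hLs).trans hm)
  rw [hx] at h2
  omega

/-- The two local subgroups in an isomorphic group. -/
theorem type_local {G : Type*} [Group G] (e : G ≃* Spor.Co1)
    (h7 : Nat.card ↥(Subgroup.centralizer ({x7} : Set Spor.Co1)) < 35280)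
    (h3 : Nat.card ↥(Subgroup.centralizer ({x3} : Set Spor.Co1)) ≤ 544320) :
    (∃ V : Subgroup G, Nat.card V = 7 ∧ Nonempty (↥(Subgroup.centralizer (V : Set G)) ≃*
      Multiplicative (ZMod 7) × alternatingGroup (Fin 7))) ∧
    ∃ W : Subgroup G, Nat.card W = 3 ∧ Nonempty (↥(Subgroup.normalizer (W : Set G)) ≃*
      Equiv.Perm (Fin 3) × alternatingGroup (Fin 9)) := by
  obtain ⟨c7, i7⟩ := iso_x7 h7
  obtain ⟨c3, i3⟩ := iso_x3 h3
  exact ⟨exists_centralizer e c7 i7, exists_normalizer e c3 i3⟩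

end CfsgLib.CoOneRec.TypeLocal
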