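import Cfsg.Agent.Lib.CoOneRec.MinScanDefs

/-!
A count of the minimal vectors with a given value of an integer quadratic form.
-/

set_option autoImplicit false

namespace CfsgLib.CoOneRec.MinScan

open CfsgLib.Golay

/-- An entry of an integer matrix. -/
noncomputable def entM (A : List (List ℤ)) (i j : ℕ) : ℤ := (A.getD i []).getD j 0

/-- A list as a number with signed fields of sixteen bits. -/
noncomputable def packZ (l : List ℤ) : ℤ := List.rec 0 (fun x _ r => x + 65536 * r) l

/-- The fields of a number. -/
noncomputable def unpackZ (n : ℕ) : ℤ → List ℤ :=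
  Nat.rec (fun _ => []) (fun _ r P => ((P + 32768) % 65536 - 32768) :: r ((P - ((P + 32768) % 65536 - 32768)) / 65536)) n

/-- The columns of a matrix, packed. -/
noncomputable def packCols (A : List (List ℤ)) : List ℤ :=
  (List.range 24).map fun p => packZ ((List.range 24).map fun i => entM A i p)

/-- The image of the vector of signs of a mask. -/
noncomputable def signImg (cols : List ℤ) (P0 : ℤ) (c : ℕ) : List ℤ :=
  unpackZ 24 (P0 - 2 * maskSum c cols 0)

/-- The odd vectors of a mask with twice the value `t`. -/
noncomputable def oddQ (A : List (List ℤ)) (t Q : ℤ) (c : ℕ) (w : List ℤ) : ℕ → List (List ℤ) :=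
  List.rec (fun _ => [])
    (fun x _ r i => cond (eqZ (cond (c.testBit i) (Q + 8 * x + 16 * entM A i i) (Q - 8 * x + 16 * entM A i i)) t)
      (oddVec c i :: r (i + 1)) (r (i + 1))) w

/-- A point with its diagonal entry and its column on some points. -/
noncomputable def octItems (A : List (List ℤ)) (ps : List ℕ) : List (ℕ × ℤ × List ℤ) :=
  List.rec [] (fun p l r => (p, entM A p p, l.map fun r' => entM A r' p) :: r) ps

/-- Sums of two lists, the first one with a sign. -/
noncomputable def addSig (s : Bool) (L col : List ℤ) : List ℤ :=
  List.rec (fun _ => []) (fun x _ r L => cond s (L.headD 0 - x) (L.headD 0 + x) :: r L.tail) col L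

/-- The sign patterns on a list of points with a given value of the form. -/
noncomputable def octQ (t : ℤ) (c : ℕ) (it : List (ℕ × ℤ × List ℤ)) : ℤ → List ℤ → ℕ → Bool → List (List ℤ) :=
  List.rec (fun q _ n odd => cond odd [] (cond (eqZ q t) [octVec c n] []))
    (fun p _ r q L n odd =>
      r (q + p.2.1 + 2 * L.headD 0) (addSig false L.tail p.2.2) n odd ++
        r (q + p.2.1 - 2 * L.headD 0) (addSig true L.tail p.2.2) (n ||| 2 ^ p.1) (!odd)) it

/-- The vectors of one code word with the value `t`, which is half of `t2` and eight times `t8`. -/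
noncomputable def wordQ (A : List (List ℤ)) (cols : List ℤ) (P0 t2 t8 : ℤ) (c : ℕ) : List (List ℤ) :=
  oddQ A t2 ((signImg cols P0 c).sum - 2 * maskSum c (signImg cols P0 c) 0) c (signImg cols P0 c) 0 ++
    cond (Nat.beq (bitCount c) 8)
      (octQ t8 c (octItems A (maskPos c)) 0 ((maskPos c).map fun _ => 0) 0 false) []

/-- The vectors with two nonzero entries and twice the value `t2`. -/
noncomputable def twoQ (A : List (List ℤ)) (t2 : ℤ) : List (List ℤ) :=
  (List.range 24).flatMap fun j => (List.range j).flatMap fun i => [false, true].flatMap fun si =>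
    [false, true].flatMap fun sj =>
      cond (eqZ (16 * entM A i i + 16 * entM A j j +
          2 * (cond si (-4) 4) * (cond sj (-4) 4) * entM A i j) t2) [twoVec i j si sj] []

/-- The vectors of one part of the code. -/
noncomputable def partQ (A : List (List ℤ)) (cols : List ℤ) (P0 t2 t8 : ℤ) (acc : ℕ) : List (List ℤ) :=
  (spanList (golayBasis.drop 4)).flatMap fun y => wordQ A cols P0 t2 t8 (y ^^^ acc)

end CfsgLib.CoOneRec.MinScan
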