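import Cfsg.Agent.Lib.CoOneRec.MinScan
import Cfsg.Agent.Lib.CoOneRec.TypeLocal.QuadSevenDefs

/-!
The scan for a value of a quadratic form finds all minimal vectors with that value.
-/

set_option autoImplicit false
set_option maxRecDepth 100000

namespace CfsgLib.CoOneRec.MinScan

open Cfsg CfsgLib.Golay CfsgLib.Leech CfsgLib.Leech.CoTwo

/-- A matrix applied to a vector in coordinates. -/
noncomputable def mulV (M : List (List ℤ)) (v : GolayPt → ℤ) : GolayPt → ℤ :=
  toVec (M.map fun row => dotInt (toVec row) v)

/-- The quadratic form of a matrix on the first twenty-four indices. -/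
noncomputable def qM (M : List (List ℤ)) (f : ℕ → ℤ) : ℤ :=
  ∑ i ∈ Finset.range 24, ∑ j ∈ Finset.range 24, entM M i j * f i * f j

theorem dot_mulV (M : List (List ℤ)) (f : ℕ → ℤ) :
    dotInt (toVec ((List.range 24).map f)) (mulV M (toVec ((List.range 24).map f))) = qM M f := by
  have h0 : dotInt (toVec []) (toVec ((List.range 24).map f)) = 0 := by
    simp [dot_toVec_fun]
  rw [dotInt_comm, mulV, dot_toVec_fun, qM]
  refine Finset.sum_congr rfl fun i _ => ?_
  conv_lhs => rw [← h0]
  rw [List.getD_map (f := fun row => dotInt (toVec row) (toVec ((List.range 24).map f))), dot_toVec_fun,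
    Finset.sum_mul]
  exact Finset.sum_congr rfl fun j _ => by rw [entM]; ring

theorem two_qM {M A : List (List ℤ)}
    (hA : ∀ i < 24, ∀ j < 24, entM A i j = entM M i j + entM M j i) (f : ℕ → ℤ) :
    qM A f = 2 * qM M f := by
  have e : qM A f = qM M f + ∑ i ∈ Finset.range 24, ∑ j ∈ Finset.range 24, entM M j i * f j * f i := by
    rw [qM, qM, ← Finset.sum_add_distrib]
    refine Finset.sum_congr rfl fun i hi => ?_
    rw [← Finset.sum_add_distrib]
    refine Finset.sum_congr rfl fun j hj => ?_
    rw [hA i (Finset.mem_range.1 hi) j (Finset.mem_range.1 hj)]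
    ring
  rw [e, Finset.sum_comm]
  rw [qM, two_mul]

theorem qM_congr {A : List (List ℤ)} {f g : ℕ → ℤ} (h : ∀ i < 24, f i = g i) : qM A f = qM A g :=
  Finset.sum_congr rfl fun i hi => Finset.sum_congr rfl fun j hj => by
    rw [h i (Finset.mem_range.1 hi), h j (Finset.mem_range.1 hj)]

theorem packZ_sum : ∀ l : List ℤ, packZ l = ∑ i ∈ Finset.range l.length, 65536 ^ i * l.getD i 0
  | [] => rfl
  | x :: l => by
    show x + 65536 * packZ l = _
    rw [List.length_cons, Finset.sum_range_succ', packZ_sum l, Finset.mul_sum, add_comm]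
    simp only [List.getD_cons_succ, List.getD_cons_zero, pow_zero, one_mul]
    congr 1
    exact Finset.sum_congr rfl fun i _ => by rw [pow_succ]; ring

theorem packZ_range (f : ℕ → ℤ) :
    packZ ((List.range 24).map f) = ∑ i ∈ Finset.range 24, 65536 ^ i * f i := by
  rw [packZ_sum, List.length_map, List.length_range]
  refine Finset.sum_congr rfl fun i hi => ?_
  rw [List.getD_eq_getElem _ _ (by simpa using Finset.mem_range.1 hi)]
  simp

theorem unpackZ_pack : ∀ l : List ℤ, (∀ x ∈ l, -32768 ≤ x ∧ x < 32768) → unpackZ l.length (packZ l) = l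
  | [], _ => rfl
  | x :: l, h => by
    show ((x + 65536 * packZ l + 32768) % 65536 - 32768) :: unpackZ l.length
      ((x + 65536 * packZ l - ((x + 65536 * packZ l + 32768) % 65536 - 32768)) / 65536) = _
    have hx := h x List.mem_cons_self
    have e : (x + 65536 * packZ l + 32768) % 65536 - 32768 = x := by omega
    rw [e, show (x + 65536 * packZ l - x) / 65536 = packZ l by omega,
      unpackZ_pack l fun y hy => h y (List.mem_cons_of_mem _ hy)]

/-- The signs of a mask. -/
def sgn (c p : ℕ) : ℤ := if c.testBit p then -1 else 1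

theorem sum_sgn (c : ℕ) (g : ℕ → ℤ) : ∑ p ∈ Finset.range 24, g p * sgn c p =
    (∑ p ∈ Finset.range 24, g p) - 2 * ∑ p ∈ Finset.range 24, if c.testBit p then g p else 0 := by
  rw [Finset.mul_sum, ← Finset.sum_sub_distrib]
  refine Finset.sum_congr rfl fun p _ => ?_
  rw [sgn]; split <;> ring

theorem maskSum_range (c : ℕ) (g : ℕ → ℤ) : maskSum c ((List.range 24).map g) 0 =
    ∑ p ∈ Finset.range 24, if c.testBit p then g p else 0 := by
  rw [maskSum_eq, List.length_map, List.length_range]
  refine Finset.sum_congr rfl fun p hp => ?_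
  rw [List.getD_eq_getElem _ _ (by simpa using Finset.mem_range.1 hp)]
  simp

/-- The rows of a matrix are small, and the packed data are those of the matrix. -/
noncomputable def dataOk (M A : List (List ℤ)) (cols : List ℤ) (P0 : ℤ) : Bool :=
  allL (fun i => allL (fun j => eqZ (entM A i j) (entM M i j + entM M j i)) (List.range 24) &&
      Nat.blt ((List.range 24).map fun j => (entM A i j).natAbs).sum 32768) (List.range 24) &&
    eqZL cols (packCols A) &&
    eqZ P0 (packZ ((List.range 24).map fun i => ((List.range 24).map fun j => entM A i j).sum))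

theorem list_sum_range {β : Type} [AddCommMonoid β] (g : ℕ → β) :
    ((List.range 24).map g).sum = ∑ p ∈ Finset.range 24, g p := by
  rw [← List.sum_toFinset _ List.nodup_range, List.toFinset_range]

theorem signImg_eq {M A : List (List ℤ)} {cols : List ℤ} {P0 : ℤ} (h : dataOk M A cols P0 = true) (c : ℕ) :
    signImg cols P0 c = (List.range 24).map fun i => ∑ p ∈ Finset.range 24, entM A i p * sgn c p := by
  simp only [dataOk, Bool.and_eq_true] at h
  obtain ⟨⟨hrow, hc⟩, hP⟩ := h
  rw [signImg, eqZ_spec.1 hP, eqZL_spec hc, packCols, maskSum_range, packZ_range]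
  set L := (List.range 24).map fun i => ∑ p ∈ Finset.range 24, entM A i p * sgn c p with hL
  have e : (∑ i ∈ Finset.range 24, (65536 : ℤ) ^ i * ((List.range 24).map fun j => entM A i j).sum) -
      2 * (∑ p ∈ Finset.range 24, if c.testBit p then packZ ((List.range 24).map fun i => entM A i p) else 0) =
      packZ L := by
    rw [hL, packZ_range]
    simp only [packZ_range, list_sum_range, sum_sgn, mul_sub, Finset.sum_sub_distrib]
    congr 1
    rw [Finset.mul_sum]
    simp only [Finset.mul_sum]
    rw [Finset.sum_comm]
    refine Finset.sum_congr rfl fun p _ => ?_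
    split
    · rw [Finset.mul_sum]
      exact Finset.sum_congr rfl fun i _ => by ring
    · simp
  rw [e]
  have hlen : L.length = 24 := by simp [hL]
  rw [← hlen]
  refine unpackZ_pack L fun x hx => ?_
  obtain ⟨i, hi, rfl⟩ := List.mem_map.1 hx
  have hr := allL_spec hrow i hi
  simp only [Bool.and_eq_true, Nat.blt_eq] at hr
  have hlt := hr.2
  rw [list_sum_range] at hlt
  have hb : |∑ p ∈ Finset.range 24, entM A i p * sgn c p| ≤
      ((∑ p ∈ Finset.range 24, (entM A i p).natAbs : ℕ) : ℤ) := by
    push_cast
    refine (Finset.abs_sum_le_sum_abs _ _).trans (Finset.sum_le_sum fun p _ => ?_)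
    rw [sgn]; split <;> simp
  have := abs_le.1 hb
  omega

theorem oddQ_spec {A : List (List ℤ)} {t Q : ℤ} {c : ℕ} : ∀ (w : List ℤ) (k : ℕ), ∀ j < w.length,
    (if c.testBit (k + j) then Q + 8 * w.getD j 0 + 16 * entM A (k + j) (k + j)
      else Q - 8 * w.getD j 0 + 16 * entM A (k + j) (k + j)) = t →
    oddVec c (k + j) ∈ oddQ A t Q c w k
  | [], k, j, hj, _ => by simp at hj
  | x :: w, k, j, hj, e => by
    show oddVec c (k + j) ∈ cond (eqZ (cond (c.testBit k) (Q + 8 * x + 16 * entM A k k)
      (Q - 8 * x + 16 * entM A k k)) t) (oddVec c k :: oddQ A t Q c w (k + 1)) (oddQ A t Q c w (k + 1))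
    rcases j with _ | j
    · simp only [add_zero, List.getD_cons_zero] at e ⊢
      rw [Bool.cond_eq_ite (c.testBit k), eqZ_spec.2 e]
      exact List.mem_cons_self
    · rw [show k + (j + 1) = k + 1 + j by omega] at e ⊢
      rw [List.getD_cons_succ] at e
      have ih := oddQ_spec (A := A) (Q := Q) w (k + 1) j (by simpa using hj) e
      cases eqZ (cond (c.testBit k) (Q + 8 * x + 16 * entM A k k) (Q - 8 * x + 16 * entM A k k)) t
      · exact ih
      · exact List.mem_cons_of_mem _ ih

theorem qM_odd {A : List (List ℤ)} (hs : ∀ i < 24, ∀ j < 24, entM A i j = entM A j i) (u : ℕ → ℤ) {i : ℕ}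
    (hi : i < 24) (d : ℤ) :
    qM A (fun p => u p + if p = i then d else 0) =
      (∑ p ∈ Finset.range 24, (∑ q ∈ Finset.range 24, entM A p q * u q) * u p) +
        2 * d * (∑ q ∈ Finset.range 24, entM A i q * u q) + d * d * entM A i i := by
  have h1 : ∀ g : ℕ → ℤ, ∑ p ∈ Finset.range 24, g p * (if p = i then d else 0) = g i * d := fun g => by
    simp [mul_ite, Finset.mem_range.2 hi]
  have h2 : ∑ p ∈ Finset.range 24, u p * entM A p i = ∑ q ∈ Finset.range 24, entM A i q * u q :=
    Finset.sum_congr rfl fun p hp => by rw [hs p (Finset.mem_range.1 hp) i hi, mul_comm]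
  have h3 : ∀ p, ∑ q ∈ Finset.range 24, entM A p q * (u p + if p = i then d else 0) *
      (u q + if q = i then d else 0) =
      (u p + if p = i then d else 0) * ((∑ q ∈ Finset.range 24, entM A p q * u q) + entM A p i * d) := fun p => by
    rw [← h1 (fun q => entM A p q), ← Finset.sum_add_distrib, Finset.mul_sum]
    exact Finset.sum_congr rfl fun q _ => by ring
  rw [qM, Finset.sum_congr rfl fun p _ => h3 p]
  simp only [add_mul, mul_add, Finset.sum_add_distrib]
  rw [← h2]
  have h4 : ∑ p ∈ Finset.range 24, (if p = i then d else 0) * ∑ q ∈ Finset.range 24, entM A p q * u q =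
      (∑ q ∈ Finset.range 24, entM A i q * u q) * d := by
    rw [← h1 fun p => ∑ q ∈ Finset.range 24, entM A p q * u q]
    exact Finset.sum_congr rfl fun p _ => mul_comm _ _
  have h5 : ∑ p ∈ Finset.range 24, (if p = i then d else 0) * (entM A p i * d) = entM A i i * d * d := by
    rw [← h1 fun p => entM A p i * d]
    exact Finset.sum_congr rfl fun p _ => mul_comm _ _
  have h6 : ∑ p ∈ Finset.range 24, u p * (entM A p i * d) = (∑ p ∈ Finset.range 24, u p * entM A p i) * d := by
    rw [Finset.sum_mul]; exact Finset.sum_congr rfl fun p _ => by ring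
  rw [h4, h5, h6, ← h2, Finset.sum_congr rfl fun p _ => mul_comm (u p) _]
  ring

/-- The sign of a point. -/
def sg (f : ℕ → Bool) (p : ℕ) : ℤ := if f p then -1 else 1

/-- The form on a list of points with signs. -/
noncomputable def quadL (A : List (List ℤ)) (f : ℕ → Bool) (ps : List ℕ) : ℤ :=
  (ps.map fun p => (ps.map fun r => entM A p r * sg f p * sg f r).sum).sum

theorem addSig_map (s : Bool) (g a : ℕ → ℤ) : ∀ ps : List ℕ,
    addSig s (ps.map g) (ps.map a) = ps.map fun r => cond s (g r - a r) (g r + a r)
  | [] => rfl
  | p :: ps => by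
    show cond s (g p - a p) (g p + a p) :: addSig s (ps.map g) (ps.map a) = _
    rw [addSig_map s g a ps]
    rfl

theorem octQ_spec {A : List (List ℤ)} {t : ℤ} {c : ℕ} (f : ℕ → Bool)
    (hs : ∀ i < 24, ∀ j < 24, entM A i j = entM A j i) :
    ∀ (ps : List ℕ) (g : ℕ → ℤ) (q : ℤ) (n : ℕ) (odd : Bool), (∀ p ∈ ps, p < 24) →
      (odd.toNat + (ps.filter f).length) % 2 = 0 →
      q + 2 * (ps.map fun p => sg f p * g p).sum + quadL A f ps = t →
      octVec c (negMask f ps n) ∈ octQ t c (octItems A ps) q (ps.map g) n odd
  | [], g, q, n, odd, _, hpar, e => by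
    show octVec c n ∈ cond odd [] (cond (eqZ q t) [octVec c n] [])
    simp only [quadL, List.map_nil, List.sum_nil, mul_zero, add_zero] at e
    have ho : odd = false := by cases odd <;> simp_all
    rw [ho, eqZ_spec.2 e]
    exact List.mem_singleton_self _
  | p :: ps, g, q, n, odd, hp, hpar, e => by
    show octVec c (negMask f (p :: ps) n) ∈
      octQ t c (octItems A ps) (q + entM A p p + 2 * g p)
          (addSig false (ps.map g) (ps.map fun r => entM A r p)) n odd ++
        octQ t c (octItems A ps) (q + entM A p p - 2 * g p)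
          (addSig true (ps.map g) (ps.map fun r => entM A r p)) (n ||| 2 ^ p) (!odd)
    rw [addSig_map, addSig_map, List.mem_append]
    have hp' : ∀ r ∈ ps, r < 24 := fun r hr => hp r (List.mem_cons_of_mem _ hr)
    have hcross : (ps.map fun r => entM A p r * sg f p * sg f r).sum = (ps.map fun r => entM A r p * sg f p * sg f r).sum :=
      congrArg List.sum (List.map_congr_left fun r hr => by rw [hs p (hp p List.mem_cons_self) r (hp' r hr)])
    have hq : quadL A f (p :: ps) = entM A p p + 2 * (ps.map fun r => entM A r p * sg f p * sg f r).sum +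
        quadL A f ps := by
      have hcol : (ps.map fun r => entM A r p * sg f r * sg f p + (ps.map fun k => entM A r k * sg f r * sg f k).sum).sum =
          (ps.map fun r => entM A r p * sg f p * sg f r).sum + quadL A f ps := by
        rw [List.sum_map_add, quadL]
        congr 1
        exact congrArg List.sum (List.map_congr_left fun r _ => by ring)
      simp only [quadL, List.map_cons, List.sum_cons] at hcol ⊢
      rw [hcol, hcross]
      have : entM A p p * sg f p * sg f p = entM A p p := by rw [sg]; split <;> ring
      rw [this]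
      ring
    rw [hq] at e
    simp only [List.map_cons, List.sum_cons] at e
    rw [show negMask f (p :: ps) n = negMask f ps (if f p then n ||| 2 ^ p else n) from rfl]
    by_cases hf : f p = true
    · rw [if_pos hf]
      rw [List.filter_cons_of_pos (p := f) hf, List.length_cons] at hpar
      have hpar' : ((!odd).toNat + (ps.filter f).length) % 2 = 0 := by cases odd <;> simp at hpar ⊢ <;> omega
      refine Or.inr (octQ_spec f hs ps _ _ _ _ hp' hpar' ?_)
      rw [← e]
      have h1 : (ps.map fun r => sg f r * cond true (g r - entM A r p) (g r + entM A r p)).sum =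
          (ps.map fun r => sg f r * g r).sum + (ps.map fun r => entM A r p * sg f p * sg f r).sum := by
        rw [← List.sum_map_add]
        refine congrArg List.sum (List.map_congr_left fun r _ => ?_)
        rw [show sg f p = -1 from if_pos hf, cond_true]; ring
      rw [h1, show sg f p = -1 from if_pos hf]
      ring
    · rw [if_neg hf]
      rw [List.filter_cons_of_neg (p := f) hf] at hpar
      refine Or.inl (octQ_spec f hs ps _ _ _ _ hp' hpar ?_)
      rw [← e]
      have h1 : (ps.map fun r => sg f r * cond false (g r - entM A r p) (g r + entM A r p)).sum =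
          (ps.map fun r => sg f r * g r).sum + (ps.map fun r => entM A r p * sg f p * sg f r).sum := by
        rw [← List.sum_map_add]
        refine congrArg List.sum (List.map_congr_left fun r _ => ?_)
        rw [show sg f p = 1 from if_neg hf, cond_false]; ring
      rw [h1, show sg f p = 1 from if_neg hf]
      ring

theorem word_split {c : ℕ} (hc : c ∈ golayList) :
    ∃ x ∈ spanList (golayBasis.take 4), ∃ y ∈ spanList (golayBasis.drop 4), c = y ^^^ x := by
  refine spanList_induction (P := fun m => ∃ a ∈ spanList (golayBasis.take 4),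
    ∃ b ∈ spanList (golayBasis.drop 4), m = b ^^^ a)
    ⟨0, zero_mem_spanList _, 0, zero_mem_spanList _, rfl⟩ ?_ c hc
  rintro b hb m ⟨x, hx, y, hy, rfl⟩
  have hb' : b ∈ golayBasis.take 4 ∨ b ∈ golayBasis.drop 4 := by
    rw [← List.mem_append, List.take_append_drop]; exact hb
  rcases hb' with hb' | hb'
  · exact ⟨b ^^^ x, xor_mem_spanList (mem_spanList_self hb') hx, y, hy, by
      rw [← Nat.xor_assoc, ← Nat.xor_assoc, Nat.xor_comm b y]⟩
  · exact ⟨x, hx, b ^^^ y, xor_mem_spanList (mem_spanList_self hb') hy, (Nat.xor_assoc _ _ _).symm⟩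

/-- The scan finds every minimal vector with the given value of the quadratic form. -/
theorem quad_complete {M A : List (List ℤ)} {cols : List ℤ} {P0 t t8 : ℤ} (hdata : dataOk M A cols P0 = true)
    (ht : 2 * t = 4 * t8) {v : GolayPt → ℤ} (hv : v ∈ leechLattice) (hn : sqNorm v = 32)
    (hd : dotInt v (mulV M v) = t) :
    ∃ l, ((∃ x ∈ spanList (golayBasis.take 4), l ∈ partQ A cols P0 (2 * t) t8 x) ∨ l ∈ twoQ A (2 * t)) ∧
      v = toVec l := by
  have hA : ∀ i < 24, ∀ j < 24, entM A i j = entM M i j + entM M j i := by
    simp only [dataOk, Bool.and_eq_true] at hdata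
    intro i hi j hj
    have h := allL_spec hdata.1.1 i (List.mem_range.2 hi)
    simp only [Bool.and_eq_true] at h
    exact eqZ_spec.1 (allL_spec h.1 j (List.mem_range.2 hj))
  have hs : ∀ i < 24, ∀ j < 24, entM A i j = entM A j i := fun i hi j hj => by
    rw [hA i hi j hj, hA j hj i hi, add_comm]
  have hpart : ∀ {c : ℕ} {l : List ℤ}, c ∈ golayList → l ∈ wordQ A cols P0 (2 * t) t8 c →
      ∃ x ∈ spanList (golayBasis.take 4), l ∈ partQ A cols P0 (2 * t) t8 x := by
    intro c l hc hl
    obtain ⟨x, hx, y, hy, rfl⟩ := word_split hc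
    exact ⟨x, hx, List.mem_flatMap.2 ⟨y, hy, hl⟩⟩
  have hval : ∀ f : ℕ → ℤ, dotInt (toVec ((List.range 24).map f)) (mulV M (toVec ((List.range 24).map f))) = t →
      qM A f = 2 * t := fun f h => by rw [two_qM hA, ← dot_mulV, h]
  by_cases hodd : v none % 2 = 1
  · obtain ⟨c, hc, i, hi, rfl⟩ := odd_form hv hn hodd
    refine ⟨_, Or.inl (hpart hc (List.mem_append_left _ ?_)), rfl⟩
    have hq := hval _ hd
    rw [qM_congr (g := fun p => sgn c p + if p = i then -4 * sgn c i else 0) fun p _ => by
        simp only [sgn]
        by_cases hp : p = i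
        · subst hp; cases c.testBit p <;> simp
        · cases c.testBit p <;> simp [hp],
      qM_odd hs _ hi] at hq
    have h := oddQ_spec (A := A) (t := 2 * t) (c := c)
      (Q := (signImg cols P0 c).sum - 2 * maskSum c (signImg cols P0 c) 0) (signImg cols P0 c) 0 i
    rw [zero_add] at h
    rw [signImg_eq hdata] at h ⊢
    refine h (by simpa using hi) ?_
    rw [list_sum_range, maskSum_range, ← sum_sgn,
      List.getD_eq_getElem _ _ (by simpa using hi), List.getElem_map, List.getElem_range, ← hq]
    rw [sgn]
    split <;> ring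
  · rcases even_form hv hn hodd with ⟨c, hc, hw, hzero, hone, heven⟩ | ⟨j, hj, i, hij, si, sj, rfl⟩
    · set f : ℕ → Bool := fun p => decide (v (pt p) = -2) with hf
      have hnd : (maskPos c).Nodup := List.nodup_range.filter _
      have hmp : ∀ p, p ∈ maskPos c ↔ p < 24 ∧ c.testBit p = true := by simp [maskPos]
      have hpos : (maskPos c).toFinset = (Finset.range 24).filter fun p => c.testBit p = true := by
        ext p; simp [hmp]
      have hvl : v = toVec ((List.range 24).map fun p => v (pt p)) := by
        funext p; rw [toVec_range, pt_ptEquiv]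
      rw [hvl] at hd
      have hq := hval _ hd
      have hvp : ∀ p < 24, v (pt p) = if c.testBit p = true then 2 * sg f p else 0 := fun p hp => by
        split
        · next hb => rcases hone _ ((pt_mem_toSet hp).2 hb) with h2 | h2 <;> simp [sg, hf, h2]
        · next hb => exact hzero _ fun hm => hb ((pt_mem_toSet hp).1 hm)
      have h4 : qM A (fun p => v (pt p)) = 4 * quadL A f (maskPos c) := by
        rw [qM_congr hvp, qM, quadL, ← List.sum_toFinset _ hnd, hpos, Finset.sum_filter, Finset.mul_sum]
        refine Finset.sum_congr rfl fun p _ => ?_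
        split
        · rw [← List.sum_toFinset _ hnd, hpos, Finset.sum_filter, Finset.mul_sum]
          exact Finset.sum_congr rfl fun r _ => by split <;> ring
        · simp
      have hmem : octVec c (negMask f (maskPos c) 0) ∈ wordQ A cols P0 (2 * t) t8 c := by
        refine List.mem_append_right _ ?_
        rw [hw, Nat.beq_refl]
        show _ ∈ octQ t8 c (octItems A (maskPos c)) 0 ((maskPos c).map fun _ => 0) 0 false
        refine octQ_spec f hs _ _ _ _ _ (fun p hp => ((hmp p).1 hp).1) ?_ ?_
        · have hcard : ((maskPos c).filter f).length = ((toSet c).filter fun p => v p = -2).card := by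
            rw [← List.toFinset_card_of_nodup (hnd.filter _)]
            refine Finset.card_bij (fun q _ => pt q) ?_ ?_ ?_
            · intro q hq
              simp only [List.mem_toFinset, List.mem_filter, hmp, hf, decide_eq_true_eq] at hq
              exact Finset.mem_filter.2 ⟨(pt_mem_toSet hq.1.1).2 hq.1.2, hq.2⟩
            · intro a ha b hb e
              simp only [List.mem_toFinset, List.mem_filter, hmp] at ha hb
              rw [← ptEquiv_pt ha.1.1, ← ptEquiv_pt hb.1.1, e]
            · intro p hp
              rw [Finset.mem_filter] at hp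
              refine ⟨(ptEquiv p).val, ?_, pt_ptEquiv p⟩
              simp only [List.mem_toFinset, List.mem_filter, hmp, hf, decide_eq_true_eq, pt_ptEquiv]
              exact ⟨⟨(ptEquiv p).isLt, mem_toSet.1 hp.1⟩, hp.2⟩
          rw [hcard, Bool.toNat_false, zero_add]
          exact Nat.even_iff.1 heven
        · simp only [mul_zero, List.map_const', List.sum_replicate, nsmul_zero, zero_add]
          omega
      refine ⟨_, Or.inl (hpart hc hmem), funext fun p => ?_⟩
      rw [octVec, toVec_range]
      have hp24 := (ptEquiv p).isLt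
      split
      · next hb =>
        have hbit : (negMask f (maskPos c) 0).testBit (ptEquiv p).val = true ↔ v p = -2 := by
          rw [testBit_negMask]
          simp [hmp, hb, hf, pt_ptEquiv, hp24]
        split
        · next hn' => exact hbit.1 hn'
        · next hn' =>
          exact (hone p (mem_toSet.2 hb)).resolve_right fun e => hn' (hbit.2 e)
      · next hb => exact hzero p fun hm => hb (mem_toSet.1 hm)
    · refine ⟨_, Or.inr ?_, rfl⟩
      have hi24 : i < 24 := by omega
      have hq := hval _ hd
      have hne : i ≠ j := by omega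
      set x : ℤ := if si then -4 else 4 with hx
      set y : ℤ := if sj then -4 else 4 with hy
      have hsum : ∀ g : ℕ → ℤ, (∀ p, p ≠ i → p ≠ j → g p = 0) →
          ∑ p ∈ Finset.range 24, g p = g i + g j := fun g hg => by
        rw [← Finset.sum_subset (s₁ := {i, j}) (by simp [Finset.insert_subset_iff, hj, hi24]) fun p _ hp => by
          simp only [Finset.mem_insert, Finset.mem_singleton, not_or] at hp
          exact hg p hp.1 hp.2, Finset.sum_pair hne]
      have e : qM A (fun p => if p = i then x else if p = j then y else 0) =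
          entM A i i * x * x + entM A i j * x * y + (entM A j i * y * x + entM A j j * y * y) := by
        rw [qM, hsum _ fun p h1 h2 => by simp [h1, h2]]
        rw [hsum _ fun p h1 h2 => by simp [h1, h2], hsum _ fun p h1 h2 => by simp [h1, h2]]
        simp [hne, hne.symm]
      rw [e] at hq
      simp only [twoQ, List.mem_flatMap, List.mem_range]
      refine ⟨j, hj, i, hij, si, by cases si <;> simp, sj, by cases sj <;> simp, ?_⟩
      have e2 : 16 * entM A i i + 16 * entM A j j + 2 * (cond si (-4) 4) * (cond sj (-4) 4) * entM A i j = 2 * t := by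
        rw [← hq, hs j hj i hi24, hx, hy]
        cases si <;> cases sj <;> simp <;> ring
      rw [eqZ_spec.2 e2]
      exact List.mem_singleton_self _

end CfsgLib.CoOneRec.MinScan
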