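import Cfsg.Agent.Lib.CoOneRec.CodeModel

/-!
# An upper bound for a centraliser from scans of a list of classes

A table lists classes of lattice vectors by their codes, with an invariant of pairs. An element that commutes with
`x` and fixes some classes sends a further class only to a candidate; the number of candidates along a base bounds
the order of the centraliser.
-/

set_option autoImplicit false

namespace CfsgLib.CoOneRec.TypeLocal

open Cfsg

/-- A table of classes, stable under the group, with an invariant of pairs. -/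
structure Table where
  /-- The number of classes. -/
  n : ℕ
  /-- The codes. -/
  code : ℕ → ℕ
  /-- The invariant. -/
  dot : ℕ → ℕ → ℕ
  code_lt : ∀ i < n, code i < 2 ^ 24
  img : ∀ (g : Spor.Co1) {i : ℕ}, i < n → ∃ j < n, pmul (codeQ g) (code i) = code j
  dot_img : ∀ (g : Spor.Co1) {i i' j j' : ℕ}, i < n → i' < n → j < n → j' < n →
    pmul (codeQ g) (code i) = code j → pmul (codeQ g) (code i') = code j' → dot j j' = dot i i'

theorem pmul_codeQ_one {v : ℕ} (hv : v < 2 ^ 24) : pmul (codeQ (1 : Spor.Co1)) v = v := by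
  rw [codeQ_one]; exact pmul_oneP hv

theorem pmul_codeQ_xor (g : Spor.Co1) {a b : ℕ} (ha : a < 2 ^ 24) (hb : b < 2 ^ 24) :
    pmul (codeQ g) (a ^^^ b) = pmul (codeQ g) a ^^^ pmul (codeQ g) b := by
  simp only [codeQ]
  rw [pmul_vec (colsQ_length _) (colsQ_lt _) ha, pmul_vec (colsQ_length _) (colsQ_lt _) hb,
    pmul_vec (colsQ_length _) (colsQ_lt _) (Nat.xor_lt_two_pow ha hb), CfsgLib.Rigid.img_xor]

theorem pmul_codeQ_lt (g : Spor.Co1) {a : ℕ} (ha : a < 2 ^ 24) : pmul (codeQ g) a < 2 ^ 24 := by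
  simp only [codeQ]
  rw [pmul_vec (colsQ_length _) (colsQ_lt _) ha]
  exact img_lt (colsQ_lt _) _

/-- The number of indices of an interval that satisfy a test. -/
noncomputable def cntB (keep : ℕ → Bool) (lo k : ℕ) : ℕ :=
  Nat.rec 0 (fun i acc => Bool.rec acc (Nat.succ acc) (keep (Nat.add lo i))) k

theorem cntB_succ (keep : ℕ → Bool) (lo k : ℕ) :
    cntB keep lo (k + 1) = cntB keep lo k + (keep (lo + k)).toNat := by
  have e : cntB keep lo (k + 1) = Bool.rec (cntB keep lo k) (Nat.succ (cntB keep lo k)) (keep (lo + k)) := rfl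
  rw [e]
  cases keep (lo + k) <;> rfl

theorem cntB_add (keep : ℕ → Bool) (lo a : ℕ) : ∀ b, cntB keep lo (a + b) = cntB keep lo a + cntB keep (lo + a) b
  | 0 => rfl
  | b + 1 => by rw [← Nat.add_assoc, cntB_succ, cntB_add keep lo a b, cntB_succ, Nat.add_assoc lo a b]; omega

theorem card_filter_eq (keep : ℕ → Bool) : ∀ k,
    ((Finset.range k).filter fun j => keep j = true).card = cntB keep 0 k
  | 0 => by simp [cntB]
  | k + 1 => by
    rw [cntB_succ, Nat.zero_add, Finset.range_add_one, Finset.filter_insert, ← card_filter_eq keep k]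
    cases hk : keep k <;> simp

/-- The classes of a pair have the invariant of the base with every fixed class. -/
noncomputable def dotsB (dot : ℕ → ℕ → ℕ) (b : ℕ) (F : List ℕ) (j : ℕ) : Bool :=
  F.all fun f => Nat.beq (dot j f) (dot b f)

/-- No witness shows another profile with a power of the element. -/
noncomputable def profB (code : ℕ → ℕ) (dot : ℕ → ℕ → ℕ) (n Y v : ℕ) (j w : ℕ) : Bool :=
  !(Nat.blt w n && Nat.beq (pmul Y (code j)) (code w) && !(Nat.beq (dot j w) v))

/-- The relation of a class with its two images. -/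
noncomputable def relB (code : ℕ → ℕ) (Y : ℕ) (j : ℕ) : Bool :=
  Nat.beq (Nat.xor (code j) (Nat.xor (pmul Y (code j)) (pmul Y (pmul Y (code j))))) 0

/-- A list is an orbit segment. -/
noncomputable def segB (code : ℕ → ℕ) (n Y : ℕ) : List ℕ → Bool
  | [] => false
  | [a] => Nat.blt a n
  | a :: b :: L => Nat.blt a n && Nat.beq (pmul Y (code a)) (code b) && segB code n Y (b :: L)

/-- The exclusive or of some codes. -/
noncomputable def combB (code : ℕ → ℕ) (L : List ℕ) : ℕ := L.foldr (fun i r => Nat.xor (code i) r) 0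

/-- Combinations of the fixed classes give the unit vectors. -/
noncomputable def spanB (code : ℕ → ℕ) (F : List ℕ) (cs : List (List ℕ)) : Bool :=
  (List.range 24).all fun k => (cs.getD k []).all F.elem && Nat.beq (combB code (cs.getD k [])) (2 ^ k)

namespace Table

variable (T : Table) (x : Spor.Co1)

/-- The elements commuting with `x` that fix the listed classes. -/
def fixC (F : List ℕ) : Subgroup Spor.Co1 where
  carrier := {g | g * x = x * g ∧ ∀ f ∈ F, f < T.n → pmul (codeQ g) (T.code f) = T.code f}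
  one_mem' := ⟨by rw [one_mul, mul_one], fun f _ hf => pmul_codeQ_one (T.code_lt f hf)⟩
  mul_mem' := fun {a b} ha hb => ⟨by rw [mul_assoc, hb.1, ← mul_assoc, ha.1, mul_assoc], fun f hf hn => by
    rw [codeQ_vec _ _ (T.code_lt f hn), hb.2 f hf hn, ha.2 f hf hn]⟩
  inv_mem' := fun {a} ha => ⟨by
      have h := ha.1
      calc a⁻¹ * x = a⁻¹ * (x * a) * a⁻¹ := by group
        _ = x * a⁻¹ := by rw [← h]; group,
    fun f hf hn => by
      conv_lhs => rw [← ha.2 f hf hn, ← codeQ_vec _ _ (T.code_lt f hn), inv_mul_cancel]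
      exact pmul_codeQ_one (T.code_lt f hn)⟩

/-- The test holds for every possible image of the base class. -/
def Keep (b : ℕ) (F : List ℕ) (keep : ℕ → Bool) : Prop :=
  ∀ g ∈ T.fixC x F, ∀ j < T.n, pmul (codeQ g) (T.code b) = T.code j → keep j = true

variable {T x} {b : ℕ} {F : List ℕ}

theorem keep_true : T.Keep x b F fun _ => true := fun _ _ _ _ _ => rfl

theorem keep_and {k k' : ℕ → Bool} (h : T.Keep x b F k) (h' : T.Keep x b F k') :
    T.Keep x b F fun j => k j && k' j := fun g hg j hj e => by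
  simp only [h g hg j hj e, h' g hg j hj e, Bool.and_self]

theorem keep_congr {k k' : ℕ → Bool} (h : T.Keep x b F k) (e : ∀ j < T.n, k j = k' j) : T.Keep x b F k' :=
  fun g hg j hj he => (e j hj).symm.trans (h g hg j hj he)

theorem keep_dots (hb : b < T.n) (hF : ∀ f ∈ F, f < T.n) : T.Keep x b F (dotsB T.dot b F) := by
  intro g hg j hj e
  simp only [dotsB, List.all_eq_true, Nat.beq_eq]
  exact fun f hf => T.dot_img g hb (hF f hf) hj (hF f hf) e (hg.2 f hf (hF f hf))

theorem keep_prof (y : Spor.Co1) (hy : ∀ g : Spor.Co1, g * x = x * g → g * y = y * g) {Y wb : ℕ}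
    (hY : codeQ y = Y) (hb : b < T.n) (hwb : wb < T.n) (hbw : pmul Y (T.code b) = T.code wb) (w : ℕ → ℕ) :
    T.Keep x b F fun j => profB T.code T.dot T.n Y (T.dot b wb) j (w j) := by
  intro g hg j hj e
  show (!(Nat.blt (w j) T.n && Nat.beq (pmul Y (T.code j)) (T.code (w j)) &&
    !(Nat.beq (T.dot j (w j)) (T.dot b wb)))) = true
  cases h1' : Nat.blt (w j) T.n
  · rfl
  cases h2' : Nat.beq (pmul Y (T.code j)) (T.code (w j))
  · rfl
  have h1 : w j < T.n := Nat.blt_eq.mp h1'
  have h2 : pmul Y (T.code j) = T.code (w j) := Nat.eq_of_beq_eq_true h2'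
  have key : T.dot j (w j) = T.dot b wb := T.dot_img g hb hwb hj h1 e (by
    rw [← hbw, ← hY, ← codeQ_vec _ _ (T.code_lt b hb), hy g hg.1, codeQ_vec _ _ (T.code_lt b hb), e, hY, h2])
  rw [key]
  simp

theorem keep_rel {Y : ℕ} (hY : codeQ x = Y) (hb : b < T.n) (h : relB T.code Y b = true) :
    T.Keep x b F (relB T.code Y) := by
  intro g hg j hj e
  subst hY
  simp only [relB, Nat.beq_eq] at h ⊢
  have hlt := T.code_lt b hb
  have e1 : pmul (codeQ g) (pmul (codeQ x) (T.code b)) = pmul (codeQ x) (T.code j) := by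
    rw [← codeQ_vec _ _ hlt, hg.1, codeQ_vec _ _ hlt, e]
  have e2 : pmul (codeQ g) (pmul (codeQ x) (pmul (codeQ x) (T.code b))) = pmul (codeQ x) (pmul (codeQ x) (T.code j)) := by
    rw [← codeQ_vec _ _ (pmul_codeQ_lt x hlt), hg.1, codeQ_vec _ _ (pmul_codeQ_lt x hlt), e1]
  have h0 : pmul (codeQ g) 0 = 0 := by
    have := pmul_codeQ_xor g hlt hlt
    rwa [Nat.xor_self, Nat.xor_self] at this
  have := congrArg (pmul (codeQ g)) h
  change pmul (codeQ g) (T.code b ^^^ (pmul (codeQ x) (T.code b) ^^^ pmul (codeQ x) (pmul (codeQ x) (T.code b)))) = _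
    at this
  rw [h0, pmul_codeQ_xor g hlt (Nat.xor_lt_two_pow (pmul_codeQ_lt x hlt) (pmul_codeQ_lt x (pmul_codeQ_lt x hlt))),
    pmul_codeQ_xor g (pmul_codeQ_lt x hlt) (pmul_codeQ_lt x (pmul_codeQ_lt x hlt)), e, e1, e2] at this
  exact this

theorem seg_fixed {g : Spor.Co1} (hg : g * x = x * g) : ∀ {L : List ℕ}, segB T.code T.n (codeQ x) L = true →
    pmul (codeQ g) (T.code (L.headD 0)) = T.code (L.headD 0) →
    ∀ f ∈ L, f < T.n ∧ pmul (codeQ g) (T.code f) = T.code f
  | [], h, _ => by simp [segB] at h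
  | [a], h, e => fun f hf => by
    simp only [segB, Nat.blt_eq] at h
    rw [List.mem_singleton] at hf
    subst hf
    exact ⟨h, e⟩
  | a :: c :: L, h, e => fun f hf => by
    simp only [segB, Bool.and_eq_true, Nat.blt_eq, Nat.beq_eq] at h
    obtain ⟨⟨ha, hc⟩, hL⟩ := h
    rcases List.mem_cons.1 hf with rfl | hf
    · exact ⟨ha, e⟩
    · refine seg_fixed hg hL ?_ f hf
      simp only [List.headD_cons] at e ⊢
      rw [← hc, ← codeQ_vec _ _ (T.code_lt a ha), hg, codeQ_vec _ _ (T.code_lt a ha), e]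

theorem seg_lt {Y : ℕ} : ∀ {L : List ℕ}, segB T.code T.n Y L = true → ∀ f ∈ L, f < T.n
  | [], h => by simp [segB] at h
  | [a], h => fun f hf => by
    simp only [segB, Nat.blt_eq] at h
    rw [List.mem_singleton] at hf
    exact hf ▸ h
  | a :: c :: L, h => fun f hf => by
    simp only [segB, Bool.and_eq_true, Nat.blt_eq] at h
    rcases List.mem_cons.1 hf with rfl | hf
    exacts [h.1.1, seg_lt h.2 f hf]

variable (T x)

/-- The certificate: per level an orbit segment starting at the base class, a number of candidates, and a sound test. -/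
def Levels : List (List ℕ × ℕ) → List ℕ → Prop
  | [], F => (∀ f ∈ F, f < T.n) ∧ ∃ cs, spanB T.code F cs = true
  | (orb, m) :: Ls, F => segB T.code T.n (codeQ x) orb = true ∧
      (∃ keep, T.Keep x (orb.headD 0) F keep ∧ cntB keep 0 T.n ≤ m) ∧ Levels Ls (F ++ orb)

variable {T x}

theorem card_step {orb : List ℕ} {m : ℕ} {keep : ℕ → Bool} (hseg : segB T.code T.n (codeQ x) orb = true)
    (hk : T.Keep x (orb.headD 0) F keep) (hm : cntB keep 0 T.n ≤ m) :
    Nat.card (T.fixC x F) ≤ m * Nat.card (T.fixC x (F ++ orb)) := by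
  classical
  have := CfsgLib.Leech.ConwaySimple.finite_co1
  set b := orb.headD 0
  have hb : b < T.n := seg_lt hseg b (by cases orb with
    | nil => simp [segB] at hseg
    | cons a L => simp [b])
  set S := (Finset.range T.n).filter fun j => keep j = true
  have hmem : ∀ g : T.fixC x F, ∃ j : S, pmul (codeQ g.1) (T.code b) = T.code j := fun g => by
    obtain ⟨j, hj, e⟩ := T.img g.1 hb
    exact ⟨⟨j, Finset.mem_filter.2 ⟨Finset.mem_range.2 hj, hk g.1 g.2 j hj e⟩⟩, e⟩
  choose p hp using hmem
  let r : S → T.fixC x F := fun j => if h : ∃ g, p g = j then h.choose else 1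
  have hr : ∀ g, p (r (p g)) = p g := fun g => by
    have h : ∃ g', p g' = p g := ⟨g, rfl⟩
    simp only [r, dif_pos h]
    exact h.choose_spec
  have hq : ∀ g : T.fixC x F, ((r (p g))⁻¹ * g : T.fixC x F).1 ∈ T.fixC x (F ++ orb) := fun g => by
    have h1 := ((r (p g))⁻¹ * g : T.fixC x F).2
    refine ⟨h1.1, fun f hf hn => ?_⟩
    rcases List.mem_append.1 hf with hf | hf
    · exact h1.2 f hf hn
    · refine (seg_fixed h1.1 hseg ?_ f hf).2
      show pmul (codeQ ((r (p g)).1⁻¹ * g.1)) (T.code b) = T.code b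
      have e := hp (r (p g))
      rw [hr] at e
      rw [codeQ_vec _ _ (T.code_lt b hb), hp g, ← e, ← codeQ_vec _ _ (T.code_lt b hb), inv_mul_cancel,
        pmul_codeQ_one (T.code_lt b hb)]
  let F' : T.fixC x F → S × T.fixC x (F ++ orb) := fun g => (p g, ⟨_, hq g⟩)
  have hinj : Function.Injective F' := fun g g' h => by
    have h1 : p g = p g' := congrArg Prod.fst h
    have h2 := congrArg (fun q => (q.2 : Spor.Co1)) h
    simp only [F', Subgroup.coe_mul, Subgroup.coe_inv, h1] at h2
    exact Subtype.ext (mul_left_cancel h2)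
  refine (Nat.card_le_card_of_injective F' hinj).trans ?_
  rw [Nat.card_prod, Nat.card_eq_finsetCard, card_filter_eq]
  exact Nat.mul_le_mul_right _ hm

theorem fixC_bot (hF : ∀ f ∈ F, f < T.n) {cs : List (List ℕ)} (h : spanB T.code F cs = true) :
    T.fixC x F = ⊥ := by
  refine eq_bot_iff.2 fun g hg => Subgroup.mem_bot.2 (codeQ_inj ?_)
  simp only [spanB, List.all_eq_true, List.mem_range, Bool.and_eq_true, List.elem_eq_mem, decide_eq_true_eq,
    Nat.beq_eq] at h
  have key : ∀ L : List ℕ, (∀ f ∈ L, f ∈ F) →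
      combB T.code L < 2 ^ 24 ∧ pmul (codeQ g) (combB T.code L) = combB T.code L := by
    intro L
    induction L with
    | nil =>
      refine fun _ => ⟨by simp [combB], ?_⟩
      have := pmul_codeQ_xor g (show 0 < 2 ^ 24 by norm_num) (show 0 < 2 ^ 24 by norm_num)
      rwa [Nat.xor_self, Nat.xor_self] at this
    | cons a L ih =>
      intro hL
      obtain ⟨h1, h2⟩ := ih fun f hf => hL f (List.mem_cons_of_mem _ hf)
      have ha := hF a (hL a List.mem_cons_self)
      refine ⟨Nat.xor_lt_two_pow (T.code_lt a ha) h1, ?_⟩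
      show pmul (codeQ g) (T.code a ^^^ combB T.code L) = T.code a ^^^ combB T.code L
      rw [pmul_codeQ_xor g (T.code_lt a ha) h1, h2, hg.2 a (hL a List.mem_cons_self) ha]
  have hfix : ∀ k < 24, pmul (codeQ g) (2 ^ k) = 2 ^ k := fun k hk => by
    obtain ⟨h1, h2⟩ := h k hk
    have := (key _ h1).2
    rwa [h2] at this
  rw [codeQ, codeQ]
  congr 1
  refine List.ext_getElem ((colsQ_length _).trans (colsQ_length _).symm) fun k h1 h2 => ?_
  have hk : k < 24 := colsQ_length g ▸ h1
  have col : ∀ y : Spor.Co1, (colsQ y).getD k 0 = pmul (codeQ y) (2 ^ k) := fun y => by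
    rw [codeQ, pmul_vec (colsQ_length _) (colsQ_lt _) (Nat.pow_lt_pow_right (by norm_num) hk), img_eq_part,
      colsQ_length]
    have key : ∀ m, part (colsQ y) (2 ^ k) m = if k < m then (colsQ y).getD k 0 else 0 := by
      intro m
      induction m with
      | zero => simp [part, xsum]
      | succ m ih =>
        show part (colsQ y) (2 ^ k) m ^^^ (colsQ y).getD m 0 * ((2 ^ k).testBit m).toNat = _
        rw [ih, Nat.testBit_two_pow]
        rcases lt_trichotomy k m with h | rfl | h
        · simp [h, h.ne, show k < m + 1 by omega]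
        · simp
        · simp [h.ne', show ¬ k < m + 1 by omega, show ¬ k < m by omega]
    rw [key 24, if_pos hk]
  rw [← List.getD_eq_getElem _ 0 h1, ← List.getD_eq_getElem _ 0 h2, col, col, hfix k hk,
    pmul_codeQ_one (Nat.pow_lt_pow_right (by norm_num) hk)]

theorem card_le_prod : ∀ (Ls : List (List ℕ × ℕ)) (F : List ℕ), T.Levels x Ls F →
    Nat.card (T.fixC x F) ≤ (Ls.map Prod.snd).prod
  | [], F, ⟨hF, cs, h⟩ => by
    rw [fixC_bot hF h, List.map_nil, List.prod_nil]
    simp
  | (orb, m) :: Ls, F, ⟨h1, ⟨keep, h2, h3⟩, h4⟩ => by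
    rw [List.map_cons, List.prod_cons]
    exact (card_step h1 h2 h3).trans (Nat.mul_le_mul_left _ (card_le_prod Ls _ h4))

theorem card_centralizer_le {Ls : List (List ℕ × ℕ)} (h : T.Levels x Ls []) :
    Nat.card (Subgroup.centralizer ({x} : Set Spor.Co1)) ≤ (Ls.map Prod.snd).prod := by
  have e : Subgroup.centralizer ({x} : Set Spor.Co1) = T.fixC x [] := by
    ext g
    rw [Subgroup.mem_centralizer_singleton_iff]
    exact ⟨fun h => ⟨h, fun f hf => absurd hf List.not_mem_nil⟩, fun h => h.1⟩
  rw [e]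
  exact card_le_prod Ls [] h

end Table

end CfsgLib.CoOneRec.TypeLocal
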