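import Cfsg.Agent.Lib.CoOneRec.TypeLocal.Bound

/-!
# A level of the centraliser bound from the kernel checks of its scan
-/

set_option autoImplicit false

namespace CfsgLib.CoOneRec.TypeLocal

open Cfsg CfsgLib.Golay CfsgLib.Leech CfsgLib.Leech.CoTwo CfsgLib.CoOneRec.MinScan

/-- The parts of the scan before a given one. -/
noncomputable def partsLo (w : List ℤ) (t : ℤ) (sol : List (List ℤ)) : Bool :=
  allL (fun acc => partScan w t sol acc) ((spanList (golayBasis.take 4)).take 8)

/-- The other parts. -/
noncomputable def partsHi (w : List ℤ) (t : ℤ) (sol : List (List ℤ)) : Bool :=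
  allL (fun acc => partScan w t sol acc) ((spanList (golayBasis.take 4)).drop 8)

/-- The functional, its value and the lengths of the hits. -/
noncomputable def funOk (R : ℤ) (ws : List (List ℤ)) (b w : List ℤ) (t : ℤ) (sol : List (List ℤ)) : Bool :=
  eqZL (scanW R ws) w && eqZ (scanT R ws b) t && Nat.beq w.length 24 &&
    allL (fun l : List ℤ => Nat.beq l.length 24) sol

/-- A level from its checks. -/
theorem levels_cons {N : List (List ℤ)} {R : ℤ} {L : Lev} {Ls : List Lev} {F : List (List ℤ)} {w : List ℤ} {t : ℤ}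
    (h : levB (Rigid.Basis.transp N) F L = true)
    (hf : funOk R (F ++ L.fx) (L.orb.headD []) w t L.sol = true)
    (hlo : partsLo w t L.sol = true) (hhi : partsHi w t L.sol = true) (h2 : twoScan w t L.sol = true)
    (hrec : Levels N R Ls (F ++ L.orb)) : Levels N R (L :: Ls) F := by
  simp only [funOk, Bool.and_eq_true, Nat.beq_eq] at hf
  obtain ⟨⟨⟨hw, ht⟩, hl⟩, hsol⟩ := hf
  refine ⟨h, fun v hn hd => ?_, fun l hl' => Nat.eq_of_beq_eq_true (allL_spec hsol l hl'), hrec⟩
  rw [eqZL_spec hw, eqZ_spec.1 ht] at hd
  refine scan_complete_parts hl (fun acc hacc => ?_) h2 v.2 hn hd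
  rw [← List.take_append_drop 8 (spanList (golayBasis.take 4))] at hacc
  rcases List.mem_append.1 hacc with h' | h'
  exacts [allL_spec hlo acc h', allL_spec hhi acc h']

end CfsgLib.CoOneRec.TypeLocal
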