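import Cfsg.Agent.Lib.CoOneRec.TypeLocal.ScanLevel

/-!
# Levels without false hits
-/

set_option autoImplicit false

namespace CfsgLib.CoOneRec.TypeLocal

open CfsgLib.Rigid
open CfsgLib.CoOneRec.MinScan (allL eqZ)

/-- The checks of a level in which no hit is filtered out. -/
noncomputable def levB' (Nt : List (List ℤ)) (F : List (List ℤ)) (L : Lev) : Bool :=
  segB Nt L.orb && allL (fun a => Nat.beq a.length 24) F && orthB Nt L.fx (L.orb.headD []) &&
    eqZ (dotList (coordsL (L.orb.headD [])) (coordsL (L.orb.headD []))) 32 && Nat.ble L.sol.length L.m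

theorem levB_of_all {Nt F : List (List ℤ)} {L : Lev} (h : levB' Nt F L = true) : levB Nt F L = true := by
  simp only [levB', levB, Bool.and_eq_true, Nat.ble_eq] at h ⊢
  exact ⟨h.1, (List.length_filter_le _ _).trans h.2⟩

end CfsgLib.CoOneRec.TypeLocal
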